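import Cfsg.Agent.Lib.Solv.RankTwoAction
import Cfsg.Agent.Lib.Solv.Generation
import Cfsg.Agent.Lib.Fusion.AB

/-!
Basic tools: elementary abelian subgroups, conjugation, commutators in class two, generation by
fixed points of hyperplanes, detecting subgroups of `p`-groups inside an ambient group.
-/

set_option autoImplicit false
set_option linter.style.haveILetI false

open scoped commutatorElement

namespace Cfsg.Agent.Solv.KlingerMason

variable {G : Type*} [Group G]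

/-- An elementary abelian `q`-subgroup. -/
def El (q : ℕ) (E : Subgroup G) : Prop :=
  (∀ a ∈ E, ∀ b ∈ E, Commute a b) ∧ ∀ a ∈ E, a ^ q = 1

/-- Conjugation. -/
abbrev cj (g : G) : G ≃* G := MulAut.conj g

theorem cj_apply (g x : G) : cj g x = g * x * g⁻¹ := rfl

theorem cj_mul (g h x : G) : cj (g * h) x = cj g (cj h x) := by
  simp only [cj_apply]; group

theorem cj_one (x : G) : cj (1 : G) x = x := by simp [cj_apply]

theorem cj_fix {g x : G} : cj g x = x ↔ Commute g x := by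
  rw [cj_apply, mul_inv_eq_iff_eq_mul]; rfl

theorem cj_self_two {g : G} (hg : g ^ 2 = 1) (x : G) : cj g (cj g x) = x := by
  rw [← cj_mul, ← pow_two, hg, cj_one]

theorem cj_commute {g : G} {a b : G} (h : Commute a b) : Commute (cj g a) (cj g b) :=
  h.map (cj g)

theorem cj_comm_map (g a b : G) : cj g ⁅a, b⁆ = ⁅cj g a, cj g b⁆ :=
  map_commutatorElement (cj g) a b

theorem El.mono {q : ℕ} {E F : Subgroup G} (h : El q E) (hFE : F ≤ E) : El q F :=
  ⟨fun a ha b hb => h.1 a (hFE ha) b (hFE hb), fun a ha => h.2 a (hFE ha)⟩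

theorem El.isPGroup {q : ℕ} [Fact q.Prime] {E : Subgroup G} (h : El q E) : IsPGroup q E :=
  fun a => ⟨1, Subtype.ext (by rw [pow_one]; exact h.2 a a.2)⟩

theorem El.isMulCommutative {q : ℕ} {E : Subgroup G} (h : El q E) : IsMulCommutative E :=
  ⟨⟨fun a b => Subtype.ext (h.1 a a.2 b b.2)⟩⟩

theorem El.bot (q : ℕ) : El q (⊥ : Subgroup G) := by
  constructor
  · intro a ha b _; rw [Subgroup.mem_bot.1 ha]; exact Commute.one_left b
  · intro a ha; rw [Subgroup.mem_bot.1 ha, one_pow]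

theorem El.zpowers {q : ℕ} {x : G} (hx : x ^ q = 1) : El q (Subgroup.zpowers x) := by
  constructor
  · rintro _ ⟨i, rfl⟩ _ ⟨j, rfl⟩; exact Commute.zpow_zpow (Commute.refl x) i j
  · rintro _ ⟨i, rfl⟩
    show (x ^ i) ^ q = 1
    rw [← zpow_natCast, ← zpow_mul, mul_comm, zpow_mul, zpow_natCast, hx, one_zpow]

theorem mem_sup_zpowers {E : Subgroup G} {x : G} (hx : ∀ e ∈ E, Commute x e) {y : G} :
    y ∈ E ⊔ Subgroup.zpowers x ↔ ∃ e ∈ E, ∃ i : ℤ, y = e * x ^ i := by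
  have hn : Subgroup.zpowers x ≤ Subgroup.normalizer (E : Set G) :=
    ((Subgroup.zpowers_le.2 (Subgroup.mem_centralizer_iff.2 fun e he => (hx e he).symm)).trans
      (Subgroup.centralizer_le_normalizer _))
  rw [← SetLike.mem_coe, Subgroup.coe_mul_of_right_le_normalizer_left E _ hn, Set.mem_mul]
  constructor
  · rintro ⟨e, he, z, ⟨i, rfl⟩, rfl⟩; exact ⟨e, he, i, rfl⟩
  · rintro ⟨e, he, i, rfl⟩; exact ⟨e, he, x ^ i, ⟨i, rfl⟩, rfl⟩

theorem El.extend [Finite G] {q : ℕ} [hq : Fact q.Prime] {E : Subgroup G} (hE : El q E) {x : G}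
    (hxq : x ^ q = 1) (hx : ∀ e ∈ E, Commute x e) (hxE : x ∉ E) :
    El q (E ⊔ Subgroup.zpowers x) ∧
      Nat.card (E ⊔ Subgroup.zpowers x : Subgroup G) = Nat.card E * q := by
  have hn : Subgroup.zpowers x ≤ Subgroup.normalizer (E : Set G) :=
    ((Subgroup.zpowers_le.2 (Subgroup.mem_centralizer_iff.2 fun e he => (hx e he).symm)).trans
      (Subgroup.centralizer_le_normalizer _))
  refine ⟨⟨?_, ?_⟩, ?_⟩
  · intro a ha b hb
    obtain ⟨e, he, i, rfl⟩ := (mem_sup_zpowers hx).1 ha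
    obtain ⟨f, hf, j, rfl⟩ := (mem_sup_zpowers hx).1 hb
    exact Commute.mul_left ((hE.1 e he f hf).mul_right ((hx e he).symm.zpow_right j))
      (((hx f hf).zpow_left i).mul_right (Commute.zpow_zpow (Commute.refl x) i j))
  · intro a ha
    obtain ⟨e, he, i, rfl⟩ := (mem_sup_zpowers hx).1 ha
    rw [((hx e he).symm.zpow_right i).mul_pow, hE.2 e he, one_mul, ← zpow_natCast, ← zpow_mul,
      mul_comm, zpow_mul, zpow_natCast, hxq, one_zpow]
  · have h := card_sup_mul_card_inf' E (Subgroup.zpowers x) hn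
    have hord : Nat.card (Subgroup.zpowers x) = q := by
      rw [Nat.card_zpowers, orderOf_eq_prime hxq (fun e => hxE (e ▸ one_mem E))]
    have hinf : Nat.card (E ⊓ Subgroup.zpowers x : Subgroup G) = 1 := by
      rcases (Nat.dvd_prime hq.out).1
        (hord ▸ Subgroup.card_dvd_of_le (inf_le_right : E ⊓ Subgroup.zpowers x ≤ _)) with h1 | h1
      · exact h1
      · exfalso
        have e := Subgroup.eq_of_le_of_card_ge (inf_le_right : E ⊓ Subgroup.zpowers x ≤ _)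
          (by rw [h1, hord])
        exact hxE (Subgroup.mem_inf.1 (e.ge (Subgroup.mem_zpowers x))).1
    rw [hinf, mul_one, hord] at h
    exact h

/-- Extending by an involution: the membership test. -/
theorem mem_sup_two {E : Subgroup G} {x : G} (hx : ∀ e ∈ E, Commute x e) (hx2 : x ^ 2 = 1) {y : G}
    (hy : y ∈ E ⊔ Subgroup.zpowers x) : y ∈ E ∨ ∃ e ∈ E, y = e * x := by
  obtain ⟨e, he, i, rfl⟩ := (mem_sup_zpowers hx).1 hy
  obtain ⟨k, rfl | rfl⟩ := Int.even_or_odd' i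
  · refine Or.inl ?_
    rw [zpow_mul, show x ^ (2 : ℤ) = 1 by exact_mod_cast hx2, one_zpow, mul_one]
    exact he
  · refine Or.inr ⟨e, he, ?_⟩
    rw [zpow_add, zpow_mul, show x ^ (2 : ℤ) = 1 by exact_mod_cast hx2, one_zpow, one_mul, zpow_one]

theorem comm_inv_left {a b : G} (h : Commute a ⁅a, b⁆) : ⁅a⁻¹, b⁆ = ⁅a, b⁆⁻¹ := by
  have h1 : ⁅a⁻¹, b⁆ = a⁻¹ * ⁅a, b⁆⁻¹ * a := by simp only [commutatorElement_def]; group
  rw [h1, mul_assoc, ← h.inv_right.eq, inv_mul_cancel_left]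

theorem comm_inv_right {a b : G} (h : Commute b ⁅a, b⁆) : ⁅a, b⁻¹⁆ = ⁅a, b⁆⁻¹ := by
  have h1 : ⁅a, b⁻¹⁆ = b⁻¹ * ⁅a, b⁆⁻¹ * b := by simp only [commutatorElement_def]; group
  rw [h1, mul_assoc, ← h.inv_right.eq, inv_mul_cancel_left]

theorem comm_mul_left {a b c : G} (h : Commute a ⁅b, c⁆) : ⁅a * b, c⁆ = ⁅b, c⁆ * ⁅a, c⁆ := by
  have h1 : ⁅a * b, c⁆ = a * ⁅b, c⁆ * a⁻¹ * ⁅a, c⁆ := by simp only [commutatorElement_def]; group
  rw [h1, h.eq, mul_inv_cancel_right]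

theorem sq_mul (g h : G) : (g * h) ^ 2 = g * g * ⁅g⁻¹, h⁆ * (h * h) := by
  simp only [commutatorElement_def, pow_two]; group

theorem eq_one_of_sq_eq {q : ℕ} (hq : Odd q) {c : G} (hc : c ^ q = 1) (h2 : c ^ 2 = 1) : c = 1 := by
  obtain ⟨k, rfl⟩ := hq
  rwa [pow_succ, pow_mul, h2, one_pow, one_mul] at hc

theorem ne_inv_of_ne_one {q : ℕ} (hq : Odd q) {c : G} (hc : c ^ q = 1) (h : c ≠ 1) : c⁻¹ ≠ c :=
  fun e => h (eq_one_of_sq_eq hq hc (by rw [pow_two]; nth_rw 1 [← e]; exact inv_mul_cancel c))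

/-- If conjugation by `a` shifts `x` by `c`, and fixes `c`, then its powers shift by powers of `c`. -/
theorem cj_pow_shift {a x c : G} (h : cj a x = x * c) (hc : cj a c = c) (j : ℕ) :
    cj (a ^ j) x = x * c ^ j := by
  induction j with
  | zero => rw [pow_zero, pow_zero, cj_one, mul_one]
  | succ j ih => rw [pow_succ', cj_mul, ih, map_mul, map_pow, hc, h, pow_succ', mul_assoc]

theorem pow_eq_one_of_shift {a x c : G} {n : ℕ} (ha : a ^ n = 1) (h : cj a x = x * c)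
    (hc : cj a c = c) : c ^ n = 1 := by
  have h1 := cj_pow_shift h hc n
  rw [ha, cj_one, left_eq_mul] at h1
  exact h1

section
variable [Finite G]

/-- An element of `A` moving an element of `K` moves one fixed by a hyperplane. -/
theorem gen_moved {p : ℕ} [hp : Fact p.Prime] {A K : Subgroup G} (hA : El p A)
    (hAK : A ≤ Subgroup.normalizer (K : Set G)) (hco : (Nat.card A).Coprime (Nat.card K))
    {a x : G} (ha : a ∈ A) (hx : x ∈ K) (hax : ¬ Commute a x) :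
    ∃ H, H ≤ A ∧ Nat.card H * p = Nat.card A ∧
      ∃ y ∈ K, (∀ h ∈ H, Commute h y) ∧ ¬ Commute a y := by
  by_contra hno
  have hle : K ≤ Subgroup.centralizer ({a} : Set G) := by
    refine (gen_eq A K hA.isMulCommutative hAK hco).ge.trans (iSup₂_le fun B hB => ?_)
    obtain ⟨hBA, b, hb, hBb⟩ := hB
    intro y hy
    obtain ⟨hyK, hyB⟩ := Subgroup.mem_inf.1 hy
    have hfix : ∀ h ∈ B, Commute h y := fun h hh => Subgroup.mem_centralizer_iff.1 hyB h hh
    refine Subgroup.mem_centralizer_singleton_iff.2 ?_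
    by_contra hne
    by_cases hbB : b ∈ B
    · rw [sup_eq_left.2 (Subgroup.zpowers_le.2 hbB)] at hBb
      exact hne (hfix a (hBb ▸ ha)).symm.eq
    · refine hno ⟨B, hBA, ?_, y, hyK, hfix, fun h => hne h.symm.eq⟩
      have := ((hA.mono hBA).extend (hA.2 b hb) (fun e he => hA.1 b hb e (hBA he)) hbB).2
      rw [hBb] at this
      exact this.symm
  exact hax (Subgroup.mem_centralizer_singleton_iff.1 (hle hx)).symm

/-- The automorphism of a subgroup induced by an element of its normalizer. -/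
theorem exists_aut (Q : Subgroup G) {g : G} (hg : g ∈ Subgroup.normalizer (Q : Set G)) :
    ∃ b : MulAut Q, (∀ x : Q, ((b x : Q) : G) = cj g x) ∧ orderOf b ∣ orderOf g := by
  obtain ⟨b, hb, hbo⟩ := Fusion.exists_restrict_aut (MulAut.conj g) Q
    (fun x hx => conj_mem_of_mem_normalizer hg hx)
  exact ⟨b, hb, hbo.trans (orderOf_map_dvd MulAut.conj g)⟩

/-- A critical subgroup of a `q`-subgroup, in the ambient group. -/
theorem exists_crit {q : ℕ} [Fact q.Prime] (Q : Subgroup G) (hQ : IsPGroup q Q) :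
    ∃ D ≤ Q, (∀ g ∈ Subgroup.normalizer (Q : Set G), ∀ x ∈ D, cj g x ∈ D) ∧
      (∀ x ∈ D, ∀ y ∈ D, Commute (x ^ q) y) ∧
      (∀ x ∈ D, ∀ y ∈ D, ∀ z ∈ D, Commute ⁅x, y⁆ z) ∧
      (∀ g ∈ Subgroup.normalizer (Q : Set G), (orderOf g).Coprime q →
        (∀ x ∈ D, Commute g x) → ∀ x ∈ Q, Commute g x) ∧
      ∀ z ∈ Q, (∀ x ∈ D, Commute z x) → z ∈ D := by
  obtain ⟨H, hHc, hpow, hcomm, hC⟩ := Fusion.exists_critical hQ
  haveI := hHc
  refine ⟨H.map Q.subtype, Subgroup.map_subtype_le _, ?_, ?_, ?_, ?_, ?_⟩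
  · rintro g hg _ ⟨x, hx, rfl⟩
    obtain ⟨b, hb, -⟩ := exists_aut Q hg
    exact ⟨b x, (Subgroup.characteristic_iff_map_eq.1 hHc b).le ⟨x, hx, rfl⟩, hb x⟩
  · rintro _ ⟨x, hx, rfl⟩ _ ⟨y, hy, rfl⟩
    exact Commute.symm (congrArg Subtype.val
      (Subgroup.mem_centralizer_iff.1 (Subgroup.mem_inf.1 (hpow x hx)).2 y hy))
  · rintro _ ⟨x, hx, rfl⟩ _ ⟨y, hy, rfl⟩ _ ⟨z, hz, rfl⟩
    have h := hcomm (Subgroup.commutator_mem_commutator hx (Subgroup.mem_top y))
    exact Commute.symm (congrArg Subtype.val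
      (Subgroup.mem_centralizer_iff.1 (Subgroup.mem_inf.1 h).2 z hz))
  · intro g hg hco hfix x hx
    obtain ⟨b, hb, hbo⟩ := exists_aut Q hg
    have h1 : b = 1 := Fusion.aut_eq_one_of_fix hQ hC b (hco.coprime_dvd_left hbo) fun y hy =>
      Subtype.ext (by rw [hb]; exact cj_fix.2 (hfix _ ⟨y, hy, rfl⟩))
    have := hb ⟨x, hx⟩
    rw [h1] at this
    exact cj_fix.1 this.symm
  · intro z hz hfix
    exact ⟨⟨z, hz⟩, hC (Subgroup.mem_centralizer_iff.2 fun y hy =>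
      Subtype.ext (hfix _ ⟨y, hy, rfl⟩).symm.eq), rfl⟩

/-- A detecting subgroup of exponent `p` and class two, in the ambient group. -/
theorem exists_det {p : ℕ} [Fact p.Prime] (hp2 : p ≠ 2) (Q : Subgroup G) (hQ : IsPGroup p Q) :
    ∃ C ≤ Q, (∀ g ∈ Subgroup.normalizer (Q : Set G), ∀ x ∈ C, cj g x ∈ C) ∧
      (∀ x ∈ C, x ^ p = 1) ∧
      (∀ x ∈ C, ∀ y ∈ C, ∀ z ∈ C, Commute ⁅x, y⁆ z) ∧
      ∀ g ∈ Subgroup.normalizer (Q : Set G), (orderOf g).Coprime p →
        (∀ x ∈ C, Commute g x) → ∀ x ∈ Q, Commute g x := by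
  obtain ⟨W, hW⟩ := RankTwo.exists_detect hp2 hQ
  haveI := hW.char
  refine ⟨W.map Q.subtype, Subgroup.map_subtype_le _, ?_, ?_, ?_, ?_⟩
  · rintro g hg _ ⟨x, hx, rfl⟩
    obtain ⟨b, hb, -⟩ := exists_aut Q hg
    exact ⟨b x, (Subgroup.characteristic_iff_map_eq.1 hW.char b).le ⟨x, hx, rfl⟩, hb x⟩
  · rintro _ ⟨x, hx, rfl⟩
    exact congrArg Subtype.val (hW.pow_eq x hx)
  · rintro _ ⟨x, hx, rfl⟩ _ ⟨y, hy, rfl⟩ _ ⟨z, hz, rfl⟩
    exact Commute.symm (congrArg Subtype.val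
      (Subgroup.mem_centralizer_iff.1 (Subgroup.mem_inf.1 (hW.comm x hx y)).2 z hz))
  · intro g hg hco hfix x hx
    obtain ⟨b, hb, hbo⟩ := exists_aut Q hg
    have h1 : b = 1 := hW.det b (hco.coprime_dvd_left hbo) fun y hy =>
      Subtype.ext (by rw [hb]; exact cj_fix.2 (hfix _ ⟨y, hy, rfl⟩))
    have := hb ⟨x, hx⟩
    rw [h1] at this
    exact cj_fix.1 this.symm

end

end Cfsg.Agent.Solv.KlingerMason
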