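import Cfsg.Agent.Lib.Solv.KlingerMason.Main
import Cfsg.Prelude.Def_Local

/-!
Conclusion: every 2-local subgroup has `p`-rank at most 2.
-/

set_option autoImplicit false
set_option linter.style.haveILetI false

open scoped commutatorElement

namespace Cfsg.Agent.Solv.KlingerMason

variable {G : Type*} [Group G] [Finite G] {p : ℕ} [hp : Fact p.Prime] {k : ℕ}

omit [Finite G] in
/-- An element of prime order is in every subgroup containing a nontrivial power of it. -/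
theorem zpow_eq_one_of_mem {H : Subgroup G} {s : G} (hs : s ^ p = 1) (hsH : s ∉ H) {i : ℤ}
    (hi : s ^ i ∈ H) : s ^ i = 1 := by
  by_cases hd : (p : ℤ) ∣ i
  · obtain ⟨c, rfl⟩ := hd
    rw [zpow_mul, zpow_natCast, hs, one_zpow]
  · exfalso
    obtain ⟨a, b, hab⟩ := ((Prime.coprime_iff_not_dvd (Nat.prime_iff_prime_int.1 hp.out)).2 hd :
      IsCoprime (p : ℤ) i)
    refine hsH ?_
    rw [← zpow_one s, ← hab, zpow_add, mul_comm a, mul_comm b, zpow_mul, zpow_mul, zpow_natCast,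
      hs, one_zpow, one_mul]
    exact zpow_mem hi b

theorem eq_one_of_coprime_pgroups {A B : Subgroup G} (hodd : Odd p) (hA : IsPGroup p A)
    (hB : IsPGroup 2 B) {c : G} (hcA : c ∈ A) (hcB : c ∈ B) : c = 1 := by
  obtain ⟨i, hi⟩ := hA ⟨c, hcA⟩
  obtain ⟨j, hj⟩ := hB ⟨c, hcB⟩
  have h2 := pow_gcd_eq_one.2 ⟨(congrArg Subtype.val hi : c ^ p ^ i = 1),
    (congrArg Subtype.val hj : c ^ 2 ^ j = 1)⟩
  rwa [((hodd.coprime_two_right.pow_left i).pow_right j).gcd_eq_one, pow_one] at h2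

/-- In the second setting no member contains the intersection we started from. -/
theorem Ctx.not_le_member {u : G} {A D I : Subgroup G} (S : Ctx p k u A D)
    (hAR : A ≤ R p I) {H : Subgroup G} (hH : Member p A D H) : ¬ I ≤ H := by
  intro hIH
  obtain ⟨-, x, hx, a, ha, hax⟩ := hH
  obtain ⟨hxD, hxH⟩ := mem_Fx.1 hx
  have hxI : x ∈ Subgroup.centralizer (I : Set G) :=
    Subgroup.mem_centralizer_iff.2 fun i hi => (hxH i (hIH hi)).eq
  obtain ⟨haO, haI⟩ := Subgroup.mem_inf.1 (hAR ha)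
  have hxa : cj x a ∈ R p I := Subgroup.mem_inf.2
    ⟨normalizer_le_O p I (Subgroup.centralizer_le_normalizer _ hxI) haO,
      mul_mem (mul_mem hxI haI) (inv_mem hxI)⟩
  have hc1 : ⁅x, a⁆ ∈ R p I := by
    rw [show ⁅x, a⁆ = cj x a * a⁻¹ by rw [cj_apply, commutatorElement_def]]
    exact mul_mem hxa (inv_mem (hAR ha))
  have hc2 : ⁅x, a⁆ ∈ D := by
    rw [show ⁅x, a⁆ = x * cj a x⁻¹ by rw [cj_apply, commutatorElement_def]; group]
    exact mul_mem hxD (S.A_norm ha (inv_mem hxD))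
  exact hax (commutatorElement_eq_one_iff_commute.1
    (eq_one_of_coprime_pgroups S.hyp.odd ((isPGroup_O p I).to_le inf_le_left) S.D2 hc1 hc2)).symm

/-- The reflection argument. -/
theorem Ctx.reflect {u u₂ s : G} {B₀ A D I : Subgroup G} (S : Ctx p k u A D)
    (hAdef : A = B₀ ⊔ Subgroup.zpowers s) (hB₀ : Nat.card B₀ * p = p ^ k) (hIB₀ : I ≤ B₀)
    (hAR : A ≤ R p I) (hu₂ : u₂ ^ 2 = 1) (hu₂u : Commute u₂ u) (hfix : ∀ x ∈ B₀, Commute u₂ x)
    (hs : cj u₂ s = s⁻¹) (hs1 : s ≠ 1) : False := by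
  haveI : Fact (Nat.Prime 2) := ⟨Nat.prime_two⟩
  have hB₀A : B₀ ≤ A := hAdef ▸ le_sup_left
  have hsA : s ∈ A := hAdef ▸ Subgroup.mem_sup_right (Subgroup.mem_zpowers s)
  have hsp : s ^ p = 1 := S.apow hsA
  obtain ⟨H, hH, hsH⟩ := S.exists_member hsA hs1
  have hHA : H ≤ A := hH.1.1
  -- elements of `H` sent into `H` lie in `B₀`
  have key : ∀ h ∈ H, cj u₂ h ∈ H → h ∈ B₀ := by
    intro h hh hh'
    have hh2 : h ∈ B₀ ⊔ Subgroup.zpowers s := hAdef ▸ hHA hh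
    obtain ⟨b, hb, i, rfl⟩ :=
      (mem_sup_zpowers fun e he => S.elA.1 s hsA e (hB₀A he)).1 hh2
    rw [map_mul, map_zpow, cj_fix.2 (hfix b hb), hs] at hh'
    have h2 : s ^ (i + i) ∈ H := by
      have := mul_mem (inv_mem hh') hh
      rwa [mul_inv_rev, inv_zpow, inv_inv,
        show s ^ i * b⁻¹ * (b * s ^ i) = s ^ (i + i) by rw [zpow_add]; group] at this
    have h3 : s ^ i = 1 := by
      have h4 := zpow_eq_one_of_mem hsp hsH h2
      refine eq_one_of_sq_eq S.hyp.odd ?_ (by rw [pow_two, ← zpow_add]; exact h4)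
      rw [← zpow_natCast, ← zpow_mul, mul_comm, zpow_mul, zpow_natCast, hsp, one_zpow]
    rw [h3, mul_one]; exact hb
  have hinjc : Function.Injective (cj u₂).toMonoidHom := (cj u₂).injective
  obtain ⟨H', hH'⟩ : ∃ H', H' = H.map (cj u₂).toMonoidHom := ⟨_, rfl⟩
  have hAmap : ∀ x ∈ A, cj u₂ x ∈ A := by
    intro x hx
    obtain ⟨b, hb, i, rfl⟩ :=
      (mem_sup_zpowers fun e he => S.elA.1 s hsA e (hB₀A he)).1
        (show x ∈ B₀ ⊔ Subgroup.zpowers s from hAdef ▸ hx)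
    rw [map_mul, map_zpow, cj_fix.2 (hfix b hb), hs]
    exact mul_mem (hB₀A hb) (zpow_mem (inv_mem hsA) i)
  have hH'hyp : Hyper p A H' := ⟨by
    rw [hH']; rintro _ ⟨h, hh, rfl⟩; exact hAmap h (hHA hh), by
    rw [hH', Subgroup.card_map_of_injective hinjc]; exact hH.1.2⟩
  have hne : H ≠ H' := by
    intro e
    have hle : H ≤ B₀ := fun h hh => key h hh (by rw [e, hH']; exact ⟨h, hh, rfl⟩)
    have : H = B₀ := Subgroup.eq_of_le_of_card_ge hle
      (Nat.le_of_mul_le_mul_right (by rw [hB₀, ← S.cardA, hH.1.2]) hp.out.pos)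
    exact S.not_le_member hAR hH (this ▸ hIB₀)
  obtain ⟨hsup, hJ⟩ := S.hyper_mul hH.1 hH'hyp hne
  have hJB : H ⊓ H' ≤ B₀ := fun j hj => by
    obtain ⟨hjH, hjH'⟩ := Subgroup.mem_inf.1 hj
    rw [hH'] at hjH'
    obtain ⟨h, hh, rfl⟩ := hjH'
    refine key _ hjH ?_
    show cj u₂ (cj u₂ h) ∈ H
    rw [cj_self_two hu₂]; exact hh
  obtain ⟨a₀, ha₀, ha₀J⟩ : ∃ a ∈ B₀, a ∉ H ⊓ H' := by
    refine SetLike.not_le_iff_exists.1 fun hle => ?_
    have h2 : Nat.card B₀ ≤ Nat.card (H ⊓ H' : Subgroup G) :=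
      Nat.le_of_dvd Nat.card_pos (Subgroup.card_dvd_of_le hle)
    have h3 := hJ.trans hB₀.symm
    have h4 := Nat.eq_of_mul_eq_mul_right hp.out.pos h3
    have hpos : 0 < Nat.card (H ⊓ H' : Subgroup G) := Nat.card_pos
    nlinarith [hp.out.two_le]
  have ha₀A : a₀ ∈ A := hB₀A ha₀
  have ha₀H : a₀ ∉ H := fun h => ha₀J (Subgroup.mem_inf.2 ⟨h, by
    rw [hH']; exact ⟨a₀, h, cj_fix.2 (hfix a₀ ha₀)⟩⟩)
  have hsupA : H ⊔ Subgroup.zpowers a₀ = A := by
    obtain ⟨-, hc⟩ := (S.elA.mono hHA).extend (S.apow ha₀A)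
      (fun e he => S.elA.1 a₀ ha₀A e (hHA he)) ha₀H
    exact Subgroup.eq_of_le_of_card_ge (sup_le hHA (Subgroup.zpowers_le.2 ha₀A))
      (by rw [hc, hH.1.2])
  -- `a₀` moves `W H`
  obtain ⟨g, hg, hga⟩ : ∃ g ∈ W A D H, ¬ Commute a₀ g := by
    by_contra hno
    push Not at hno
    obtain ⟨w, hw, a, ha, haw⟩ := S.W_moved hH
    have : A ≤ Subgroup.centralizer ({w} : Set G) := by
      rw [← hsupA]
      exact sup_le (fun h hh => Subgroup.mem_centralizer_singleton_iff.2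
        ((mem_Fx.1 (S.W_le hHA hw)).2 h hh).eq)
        (Subgroup.zpowers_le.2 (Subgroup.mem_centralizer_singleton_iff.2 (hno w hw).eq))
    exact haw (Subgroup.mem_centralizer_singleton_iff.1 (this ha))
  obtain ⟨g', hg'⟩ : ∃ g', g' = cj a₀ g := ⟨_, rfl⟩
  have hg'W : g' ∈ W A D H := hg' ▸ S.W_inv hHA ha₀A hg
  -- images under `u₂`
  have himg : ∀ x ∈ W A D H, cj u₂ x ∈ Fx D H' := by
    intro x hx
    obtain ⟨hxD, hxH⟩ := mem_Fx.1 (S.W_le hHA hx)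
    refine mem_Fx.2 ⟨S.norm u₂ hu₂u x hxD, ?_⟩
    rw [hH']
    rintro _ ⟨h, hh, rfl⟩
    exact cj_commute (hxH h hh)
  have hcomm : ∀ x ∈ W A D H, ∀ y ∈ W A D H, Commute (cj u₂ x) y := fun x hx y hy =>
    S.W_comm hH.1 hH'hyp hne (himg x hx) hy
  have hu₂U : ∀ e ∈ Subgroup.zpowers u, cj u₂ e = e := fun e he => by
    obtain ⟨i, rfl⟩ := Subgroup.mem_zpowers_iff.1 he
    exact cj_fix.2 (hu₂u.zpow_right i)
  have hU2 : ∀ e ∈ Subgroup.zpowers u, e * e = 1 := fun e he => by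
    rw [← pow_two]; exact (El.zpowers S.u2).2 e he
  have hsqd : ∀ x ∈ W A D H, x * cj u₂ x * (x * cj u₂ x) = 1 := fun x hx => by
    rw [(hcomm x hx x hx).mul_mul_mul_comm, ← map_mul, hu₂U _ (S.W_sq hx).2]
    exact hU2 _ (S.W_sq hx).2
  have hfixd : ∀ x ∈ W A D H, Commute u₂ (x * cj u₂ x) := fun x hx => by
    refine cj_fix.1 ?_
    rw [map_mul, cj_self_two hu₂, (hcomm x hx x hx).eq]
  have hdD : ∀ x ∈ W A D H, x * cj u₂ x ∈ D := fun x hx =>
    mul_mem (S.W_sq hx).1 (S.norm u₂ hu₂u x (S.W_sq hx).1)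
  have hdJ : ∀ x ∈ W A D H, ∀ j ∈ H ⊓ H', Commute (x * cj u₂ x) j := fun x hx j hj =>
    (((mem_Fx.1 (S.W_le hHA hx)).2 j (Subgroup.mem_inf.1 hj).1).mul_right
      ((mem_Fx.1 (himg x hx)).2 j (Subgroup.mem_inf.1 hj).2)).symm
  obtain ⟨d, hd⟩ : ∃ d, d = g * cj u₂ g := ⟨_, rfl⟩
  obtain ⟨d', hd'⟩ : ∃ d', d' = g' * cj u₂ g' := ⟨_, rfl⟩
  have ha₀u₂ : Commute a₀ u₂ := (hfix a₀ ha₀).symm
  have hdd' : cj a₀ d = d' := by
    rw [hd, hd', map_mul, hg', ← cj_mul, ← cj_mul, ha₀u₂.eq]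
  have hdc : Commute d' d := by
    obtain ⟨c, hc⟩ : ∃ c, c = ⁅g', g⁆ := ⟨_, rfl⟩
    have hcU : c ∈ Subgroup.zpowers u := hc ▸ S.comm_mem (S.W_sq hg'W).1 (S.W_sq hg).1
    have e1 : g' * g = c * (g * g') := by rw [hc, commutatorElement_def]; group
    have e2 : cj u₂ g' * cj u₂ g = c * (cj u₂ g * cj u₂ g') := by
      rw [← map_mul, e1, map_mul, map_mul, hu₂U c hcU]
    have hcD : Commute (g * g') c := S.u_comm (mul_mem (S.W_sq hg).1 (S.W_sq hg'W).1) hcU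
    show d' * d = d * d'
    rw [hd, hd', (hcomm g' hg'W g hg).mul_mul_mul_comm, (hcomm g hg g' hg'W).mul_mul_mul_comm,
      e1, e2]
    calc c * (g * g') * (c * (cj u₂ g * cj u₂ g'))
        = c * ((g * g') * c) * (cj u₂ g * cj u₂ g') := by group
      _ = g * g' * (cj u₂ g * cj u₂ g') := by
        rw [hcD.eq, ← mul_assoc c c, hU2 c hcU, one_mul]
  have hnd : cj a₀ d ≠ d := by
    intro e
    rw [hdd', hd, hd'] at e
    obtain ⟨t, ht⟩ : ∃ t, t = g⁻¹ * g' := ⟨_, rfl⟩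
    have ht2 : t = cj u₂ g * (cj u₂ g')⁻¹ := by
      rw [ht]
      calc g⁻¹ * g' = g⁻¹ * (g' * cj u₂ g') * (cj u₂ g')⁻¹ := by group
        _ = cj u₂ g * (cj u₂ g')⁻¹ := by rw [e]; group
    have h1 : t ∈ Fx D H :=
      ht ▸ mul_mem (inv_mem (S.W_le hHA hg)) (S.W_le hHA hg'W)
    have h2 : t ∈ Fx D H' := ht2 ▸ mul_mem (himg g hg) (inv_mem (himg g' hg'W))
    have htA := S.two_fix hH.1 hH'hyp hne (mem_Fx.1 h1).2 (mem_Fx.1 h2).2
    have hsh : cj a₀ g = g * t := by rw [ht, mul_inv_cancel_left, hg']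
    rw [S.shift_one ha₀A (mem_Fx.1 h1).1 hsh (cj_fix.2 (htA a₀ ha₀A)), mul_one] at hsh
    exact hga (cj_fix.1 hsh)
  -- four involutions centralizing the intersection
  have hE1 : El 2 (Subgroup.zpowers u) := El.zpowers S.u2
  have hI1 : ∀ e ∈ Subgroup.zpowers u, ∀ i ∈ H ⊓ H', Commute e i := fun e he i hi => by
    obtain ⟨j, rfl⟩ := Subgroup.mem_zpowers_iff.1 he
    exact (S.Au i (hHA (Subgroup.mem_inf.1 hi).1)).symm.zpow_left j
  have hu₂1 : u₂ ≠ 1 := fun e => by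
    rw [e, cj_one] at hs
    exact ne_inv_of_ne_one S.hyp.odd hsp hs1 hs.symm
  obtain ⟨hE2, hc2, hI2⟩ := grow hE1 hI1 (x := u₂) (by rw [← pow_two, hu₂])
    (fun e he => by
      obtain ⟨j, rfl⟩ := Subgroup.mem_zpowers_iff.1 he
      exact hu₂u.zpow_right j)
    (fun h => by
      rcases (mem_zpowers_two S.u2).1 h with e | e
      · exact hu₂1 e
      · rw [e, cj_fix.2 (S.Au s hsA).symm] at hs
        exact ne_inv_of_ne_one S.hyp.odd hsp hs1 hs.symm)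
    (fun i hi => hfix i (hJB hi))
  have hu₂e : ∀ e ∈ Subgroup.zpowers u, Commute u₂ e := fun e he => by
    obtain ⟨j, rfl⟩ := Subgroup.mem_zpowers_iff.1 he
    exact hu₂u.zpow_right j
  have hd₂ : ∀ x ∈ W A D H, ∀ e ∈ Subgroup.zpowers u ⊔ Subgroup.zpowers u₂,
      Commute (x * cj u₂ x) e := by
    intro x hx e he
    obtain ⟨f, hf, i, rfl⟩ := (mem_sup_zpowers hu₂e).1 he
    exact (S.u_comm (hdD x hx) hf).mul_right ((hfixd x hx).symm.zpow_right i)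
  have ha₀2 : ∀ e ∈ Subgroup.zpowers u ⊔ Subgroup.zpowers u₂, cj a₀ e = e := by
    intro e he
    obtain ⟨f, hf, i, rfl⟩ := (mem_sup_zpowers hu₂e).1 he
    rw [map_mul, S.u_fix ha₀A hf, map_zpow, cj_fix.2 ha₀u₂]
  obtain ⟨hE3, hc3, hI3⟩ := grow hE2 hI2 (hd ▸ hsqd g hg) (hd ▸ hd₂ g hg)
    (fun h => hnd (ha₀2 d h)) (hd ▸ hdJ g hg)
  have hd2 : ∀ e ∈ Subgroup.zpowers u ⊔ Subgroup.zpowers u₂, Commute d e := hd ▸ hd₂ g hg
  obtain ⟨hE4, hc4, hI4⟩ := grow hE3 hI3 (hd' ▸ hsqd g' hg'W)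
    (fun e he => by
      obtain ⟨f, hf, i, rfl⟩ := (mem_sup_zpowers hd2).1 he
      exact ((hd' ▸ hd₂ g' hg'W) f hf).mul_right (hdc.zpow_right i))
    (fun h => by
      rcases mem_sup_two hd2 (by rw [pow_two]; exact hd ▸ hsqd g hg) h with h | ⟨e, he, h⟩
      · refine hnd ((cj a₀).injective ?_)
        rw [hdd', ha₀2 d' h]
      · refine hnd ?_
        have heD : e ∈ D := by
          rw [show e = d' * d⁻¹ by rw [h, mul_inv_cancel_right]]
          exact mul_mem (hd' ▸ hdD g' hg'W) (inv_mem (hd ▸ hdD g hg))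
        have hsh : cj a₀ d = d * e := by rw [hdd', h, (hd2 e he).eq]
        rw [S.shift_one ha₀A heD hsh (ha₀2 e he), mul_one] at hsh
        exact hsh)
    (hd' ▸ hdJ g' hg'W)
  have := S.hyp.not_bound (S.elA.mono (inf_le_left.trans hHA)) hE4 hI4 2 (by omega)
    (by rw [pow_two, ← mul_assoc, hJ])
  rw [hc4, hc3, hc2, card_two S.u1 S.u2] at this
  omega

theorem Hyp.false (H : Hyp G p k) {A T₀ : Subgroup G} (hA : El p A) (hc : Nat.card A = p ^ k)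
    (hT : IsPGroup 2 T₀) (hT1 : T₀ ≠ ⊥) (hAT : A ≤ Subgroup.normalizer (T₀ : Set G)) : False := by
  obtain ⟨u, hu1, hu2, hAu⟩ := H.exists_inv hA hc hT hT1 hAT
  obtain ⟨D, S⟩ := H.exists_ctx hu1 hu2 hA hc hAu
  obtain ⟨a, ha, ha1⟩ : ∃ a ∈ A, a ≠ 1 := by
    by_contra hno
    push Not at hno
    rw [(Subgroup.eq_bot_iff_forall A).2 hno, Subgroup.card_bot] at hc
    have := (Nat.pow_eq_one.1 hc.symm)
    have := H.k3
    have := hp.out.two_le
    omega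
  obtain ⟨B, hB, -⟩ := S.exists_member ha ha1
  obtain ⟨B', hB', hne⟩ := S.exists_other hB.1
  obtain ⟨E, hE, hE8, hEI⟩ := S.eight hB hB' hne.symm
  obtain ⟨-, hJ⟩ := S.hyper_mul hB.1 hB'.1 hne.symm
  have hIA : B ⊓ B' ≤ A := inf_le_left.trans hB.1.1
  have hI1 : B ⊓ B' ≠ ⊥ := fun e => by
    rw [e, Subgroup.card_bot, one_mul, ← pow_two] at hJ
    have := Nat.pow_right_injective hp.out.two_le hJ
    have := H.k3
    omega
  obtain ⟨u₁, u₂, B₀, s, hu₁E, hu₁1, hu₂E, hIB₀, hel, hR, hcB₀, hcA', hu₁A, hu₂B₀, hs, hs1⟩ :=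
    H.three (hA.mono hIA) hI1 hE hEI hE8
  have hcard : Nat.card (B₀ ⊔ Subgroup.zpowers s : Subgroup G) = p ^ k := by rw [hcA', hcB₀, hJ]
  obtain ⟨D', S'⟩ := H.exists_ctx hu₁1 (hE.2 u₁ hu₁E) hel hcard
    (fun x hx => (hu₁A x hx).symm)
  exact S'.reflect rfl (by rw [← hcard, hcA']) hIB₀ hR (hE.2 u₂ hu₂E) (hE.1 u₂ hu₂E u₁ hu₁E)
    hu₂B₀ hs hs1

theorem main (hp2 : p ≠ 2) (hGp : Cfsg.IsOfLocalCharacteristic p G)
    (hG2 : Cfsg.IsCharacteristicTwoType G) : Cfsg.TwoLocalPRankLE p 2 G := by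
  classical
  rintro N ⟨T, hT, hT1, rfl⟩ X hXc hXp
  by_contra hlt
  rw [not_le] at hlt
  let P : ℕ → Prop := fun j => ∃ Y T : Subgroup G, El p Y ∧ Nat.card Y = p ^ j ∧ IsPGroup 2 T ∧
    T ≠ ⊥ ∧ Y ≤ Subgroup.normalizer (T : Set G)
  have hbd : ∀ j, P j → j ≤ Nat.card G := by
    rintro j ⟨Y, T, -, hY, -⟩
    exact (Nat.lt_pow_self hp.out.one_lt).le.trans (hY ▸ Subgroup.card_le_card_group Y)
  -- the given subgroup
  have hXel : El p (X.map (Subgroup.normalizer (T : Set G)).subtype) := by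
    constructor
    · rintro _ ⟨a, ha, rfl⟩ _ ⟨b, hb, rfl⟩
      exact congrArg Subtype.val (congrArg Subtype.val (hXc.is_comm.comm ⟨a, ha⟩ ⟨b, hb⟩))
    · rintro _ ⟨a, ha, rfl⟩
      exact congrArg Subtype.val (hXp a ha)
  have hXcard : Nat.card (X.map (Subgroup.normalizer (T : Set G)).subtype) = Nat.card X :=
    Subgroup.card_map_of_injective Subtype.val_injective
  obtain ⟨j, hj⟩ := IsPGroup.iff_card.1 hXel.isPGroup
  have hPj : P j := ⟨_, T, hXel, hj, hT, hT1, Subgroup.map_subtype_le _⟩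
  have hj3 : 3 ≤ j := by
    by_contra hj3
    rw [← hXcard, hj] at hlt
    exact absurd hlt (not_lt.2 (Nat.pow_le_pow_right hp.out.pos (by omega)))
  obtain ⟨k, hk⟩ : ∃ k, k = Nat.findGreatest P (Nat.card G) := ⟨_, rfl⟩
  have hjk : j ≤ k := hk ▸ Nat.le_findGreatest (hbd j hPj) hPj
  have hPk : P k := hk ▸ Nat.findGreatest_spec (hbd j hPj) hPj
  have hmax : ∀ i, P i → i ≤ k := fun i hi => hk ▸ Nat.le_findGreatest (hbd i hi) hi
  have hodd : Odd p := hp.out.odd_of_ne_two hp2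
  have H : Hyp G p k :=
    { odd := hodd
      k3 := hj3.trans hjk
      charp := fun B x hB hB1 hx hco hfix => charp_of hGp hB hB1 hx hco hfix
      char2 := fun T x hT hT1 hx hco hfix => char2_of hG2 hT hT1 hx hco hfix
      max := by
        intro Y z hY hz1 hz2 hzY
        haveI : Fact (Nat.Prime 2) := ⟨Nat.prime_two⟩
        obtain ⟨i, hi⟩ := IsPGroup.iff_card.1 hY.isPGroup
        rw [hi]
        refine Nat.pow_le_pow_right hp.out.pos (hmax i ⟨Y, Subgroup.zpowers z, hY, hi,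
          (El.zpowers hz2).isPGroup, fun e => hz1 (Subgroup.zpowers_eq_bot.1 e), fun y hy => ?_⟩)
        refine Subgroup.centralizer_le_normalizer _ (Subgroup.mem_centralizer_iff.2 fun w hw => ?_)
        obtain ⟨l, rfl⟩ := Subgroup.mem_zpowers_iff.1 hw
        exact ((hzY y hy).zpow_left l).eq }
  obtain ⟨Y, T', hY, hYc, hT', hT'1, hYT'⟩ := hPk
  exact H.false hY hYc hT' hT'1 hYT'

end Cfsg.Agent.Solv.KlingerMason
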