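import Cfsg.Agent.Lib.Solv.KlingerMason.Weights
import Cfsg.Prelude.Def_LocalEven
import Cfsg.Prelude.Def_CaseTheorems

/-!
The bound on 2-subgroups centralizing a `p`-subgroup in a group of characteristic `p` and 2 type.
-/

set_option autoImplicit false
set_option linter.style.haveILetI false

open scoped commutatorElement

namespace Cfsg.Agent.Solv.KlingerMason

variable {G : Type*} [Group G] [Finite G] {p : ℕ} [hp : Fact p.Prime]

/-- `O_q(N(T))` as a subgroup of `G`. -/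
def O (q : ℕ) (T : Subgroup G) : Subgroup G :=
  (Cfsg.pCore q ↥(Subgroup.normalizer (T : Set G))).map
    (Subgroup.normalizer (T : Set G)).subtype

/-- `O_p(N(B)) ∩ C(B)`. -/
def R (p : ℕ) (B : Subgroup G) : Subgroup G := O p B ⊓ Subgroup.centralizer (B : Set G)

omit hp in
theorem isPGroup_O (q : ℕ) (T : Subgroup G) : IsPGroup q (O q T) :=
  (Fusion.isPGroup_pCore q _).map _

omit hp in
theorem le_O {q : ℕ} {T : Subgroup G} (hT : IsPGroup q T) : T ≤ O q T := by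
  haveI := Subgroup.normal_in_normalizer (H := T)
  intro t ht
  refine ⟨⟨t, Subgroup.le_normalizer ht⟩, Fusion.le_pCore
    (N := T.subgroupOf (Subgroup.normalizer (T : Set G))) ?_ (Subgroup.mem_subgroupOf.2 ht), rfl⟩
  exact hT.comap_of_injective _ Subtype.val_injective

omit [Finite G] hp in
theorem normalizer_le_O (q : ℕ) (T : Subgroup G) {g x : G}
    (hg : g ∈ Subgroup.normalizer (T : Set G)) (hx : x ∈ O q T) : cj g x ∈ O q T := by
  obtain ⟨y, hy, rfl⟩ := hx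
  exact ⟨⟨g, hg⟩ * y * ⟨g, hg⟩⁻¹,
    (Solv.pCore_normal q).conj_mem y hy ⟨g, hg⟩, rfl⟩

/-- The hypotheses used by the argument. -/
structure Hyp (G : Type*) [Group G] (p k : ℕ) : Prop where
  odd : Odd p
  k3 : 3 ≤ k
  charp : ∀ (B : Subgroup G) (x : G), El p B → B ≠ ⊥ → x ∈ Subgroup.centralizer (B : Set G) →
    (orderOf x).Coprime p → (∀ r ∈ R p B, Commute x r) → x = 1
  char2 : ∀ (T : Subgroup G) (x : G), IsPGroup 2 T → T ≠ ⊥ →
    x ∈ Subgroup.normalizer (T : Set G) → (orderOf x).Coprime 2 →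
    (∀ t ∈ O 2 T, Commute x t) → x = 1
  max : ∀ (X : Subgroup G) (z : G), El p X → z ≠ 1 → z ^ 2 = 1 →
    (∀ x ∈ X, Commute z x) → Nat.card X ≤ p ^ k

variable {k : ℕ}

theorem charp_of {B : Subgroup G} {x : G} (hGp : Cfsg.IsOfLocalCharacteristic p G) (hB : El p B)
    (hB1 : B ≠ ⊥) (hx : x ∈ Subgroup.centralizer (B : Set G)) (hco : (orderOf x).Coprime p)
    (hfix : ∀ r ∈ R p B, Commute x r) : x = 1 := by
  have hxN := Subgroup.centralizer_le_normalizer (B : Set G) hx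
  have hcen : x ∈ Subgroup.centralizer (O p B : Set G) := by
    refine Fusion.mem_centralizer_of_AB (T := B) (isPGroup_O p B) hB.isPGroup
      (fun b hb => Fusion.mem_normalizer_of_cj_le ?_) (Fusion.mem_normalizer_of_cj_le ?_)
      (fun t ht => (Subgroup.mem_centralizer_iff.1 hx t ht).symm) hco
      (fun q hq hqT => (hfix q (Subgroup.mem_inf.2
        ⟨hq, Subgroup.mem_centralizer_iff.2 fun t ht => (hqT t ht).symm⟩)).eq)
    · rintro _ ⟨y, hy, rfl⟩; exact normalizer_le_O p B (Subgroup.le_normalizer hb) hy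
    · rintro _ ⟨y, hy, rfl⟩; exact normalizer_le_O p B hxN hy
  have h1 : (⟨x, hxN⟩ : ↥(Subgroup.normalizer (B : Set G))) ∈
      Cfsg.pCore p ↥(Subgroup.normalizer (B : Set G)) :=
    hGp.2 B hB.isPGroup hB1 (Subgroup.mem_centralizer_iff.2 fun y hy =>
      Subtype.ext (Subgroup.mem_centralizer_iff.1 hcen (y : G) ⟨y, hy, rfl⟩))
  obtain ⟨j, hj⟩ := IsPGroup.iff_orderOf.1 (Fusion.isPGroup_pCore p _) ⟨_, h1⟩
  rw [Subgroup.orderOf_mk, Subgroup.orderOf_mk] at hj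
  exact orderOf_eq_one_iff.1 (Nat.eq_one_of_dvd_coprimes (hco.pow_right j) dvd_rfl (hj ▸ dvd_rfl))

omit hp in
theorem char2_of {T : Subgroup G} {x : G} (hG2 : Cfsg.IsCharacteristicTwoType G) (hT : IsPGroup 2 T)
    (hT1 : T ≠ ⊥) (hx : x ∈ Subgroup.normalizer (T : Set G)) (hco : (orderOf x).Coprime 2)
    (hfix : ∀ t ∈ O 2 T, Commute x t) : x = 1 := by
  haveI : Fact (Nat.Prime 2) := ⟨Nat.prime_two⟩
  have h1 : (⟨x, hx⟩ : ↥(Subgroup.normalizer (T : Set G))) ∈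
      Cfsg.pCore 2 ↥(Subgroup.normalizer (T : Set G)) :=
    hG2.2 T hT hT1 (Subgroup.mem_centralizer_iff.2 fun y hy =>
      Subtype.ext (hfix (y : G) ⟨y, hy, rfl⟩).symm.eq)
  obtain ⟨j, hj⟩ := IsPGroup.iff_orderOf.1 (Fusion.isPGroup_pCore 2 _) ⟨_, h1⟩
  rw [Subgroup.orderOf_mk, Subgroup.orderOf_mk] at hj
  exact orderOf_eq_one_iff.1 (Nat.eq_one_of_dvd_coprimes (hco.pow_right j) dvd_rfl (hj ▸ dvd_rfl))

theorem coprime_of_sq (hodd : Odd p) {g : G} (hg : g ^ 2 = 1) : (orderOf g).Coprime p :=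
  Nat.Coprime.coprime_dvd_left (orderOf_dvd_of_pow_eq_one hg) hodd.coprime_two_left

theorem Hyp.wdata (H : Hyp G p k) {B E : Subgroup G} (hB : El p B) (hB1 : B ≠ ⊥) (hE : El 2 E)
    (hEB : ∀ g ∈ E, ∀ b ∈ B, Commute g b) : ∃ C ≤ R p B, WData p B C E := by
  have hp2 : p ≠ 2 := by obtain ⟨m, hm⟩ := H.odd; omega
  obtain ⟨C, hCR, hnorm, hexp, hcl, hdet⟩ := exists_det hp2 (R p B)
    ((isPGroup_O p B).to_le inf_le_left)
  have hEc : ∀ g ∈ E, g ∈ Subgroup.centralizer (B : Set G) := fun g hg =>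
    Subgroup.mem_centralizer_iff.2 fun b hb => (hEB g hg b hb).symm
  have hEn : ∀ g ∈ E, g ∈ Subgroup.normalizer (R p B : Set G) := fun g hg =>
    Fusion.mem_normalizer_of_cj_le (by
      rintro _ ⟨y, hy, rfl⟩
      refine Subgroup.mem_inf.2 ⟨normalizer_le_O p B
        (Subgroup.centralizer_le_normalizer _ (hEc g hg)) (Subgroup.mem_inf.1 hy).1, ?_⟩
      exact mul_mem (mul_mem (hEc g hg) (Subgroup.mem_inf.1 hy).2) (inv_mem (hEc g hg)))
  refine ⟨C, hCR, H.odd, hB, hE, fun g hg c hc => hnorm g (hEn g hg) c hc, hexp, hcl,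
    fun g hg hg1 => ?_, fun b hb c hc =>
      Subgroup.mem_centralizer_iff.1 (Subgroup.mem_inf.1 (hCR hc)).2 b hb, hEB⟩
  by_contra hno
  push Not at hno
  have hgp := coprime_of_sq H.odd (hE.2 g hg)
  exact hg1 (H.charp B g hB hB1 (hEc g hg) hgp fun r hr => hdet g (hEn g hg) hgp hno r hr)

/-- The weight lemma. -/
theorem Hyp.bound (H : Hyp G p k) {B E : Subgroup G} (hB : El p B) (hB1 : B ≠ ⊥) (hE : El 2 E)
    (hEB : ∀ g ∈ E, ∀ b ∈ B, Commute g b) (n : ℕ) (hcard : 2 ^ (n + 1) ≤ Nat.card E) :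
    Nat.card B * p ^ n ≤ p ^ k := by
  obtain ⟨C, -, W⟩ := H.wdata hB hB1 hE hEB
  obtain ⟨Y, -, K, hKE, hel, hc, hK, hfix⟩ := W.chain n
    ((Nat.pow_le_pow_right (by norm_num) (by omega)).trans hcard)
  have h2 : 2 ≤ Nat.card K := by
    have : 2 ^ n * 2 ≤ 2 ^ n * Nat.card K := by rw [← pow_succ]; exact hcard.trans hK
    exact Nat.le_of_mul_le_mul_left this (Nat.two_pow_pos n)
  haveI : Nontrivial K := Finite.one_lt_card_iff_nontrivial.1 h2
  obtain ⟨z, hz⟩ := exists_ne (1 : K)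
  rw [← hc]
  exact H.max _ (z : G) hel (fun e => hz (Subtype.ext e)) (hE.2 _ (hKE z.2))
    (fun x hx => hfix z z.2 x hx)

theorem Hyp.not_bound (H : Hyp G p k) {B E : Subgroup G} (hB : El p B) (hE : El 2 E)
    (hEB : ∀ g ∈ E, ∀ b ∈ B, Commute g b) (n : ℕ) (hn : n < 3)
    (hBc : Nat.card B * p ^ n = p ^ k) : Nat.card E < 2 ^ (n + 2) := by
  by_contra hlt
  have hB1 : B ≠ ⊥ := fun e => by
    rw [e, Subgroup.card_bot, one_mul] at hBc
    have := Nat.pow_right_injective hp.out.two_le hBc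
    have := H.k3
    omega
  have h := H.bound hB hB1 hE hEB (n + 1) (not_lt.1 hlt)
  rw [pow_succ, ← mul_assoc, hBc] at h
  nlinarith [hp.out.two_le, Nat.pow_pos (n := k) hp.out.pos]

/-- Two weights for a group of order 8. -/
theorem Hyp.three (H : Hyp G p k) {B E : Subgroup G} (hB : El p B) (hB1 : B ≠ ⊥) (hE : El 2 E)
    (hEB : ∀ g ∈ E, ∀ b ∈ B, Commute g b) (hcard : 8 ≤ Nat.card E) :
    ∃ u₁ u₂ : G, ∃ B₀ : Subgroup G, ∃ s : G, u₁ ∈ E ∧ u₁ ≠ 1 ∧ u₂ ∈ E ∧ B ≤ B₀ ∧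
      El p (B₀ ⊔ Subgroup.zpowers s) ∧ B₀ ⊔ Subgroup.zpowers s ≤ R p B ∧
      Nat.card B₀ = Nat.card B * p ∧
      Nat.card (B₀ ⊔ Subgroup.zpowers s : Subgroup G) = Nat.card B₀ * p ∧
      (∀ x ∈ B₀ ⊔ Subgroup.zpowers s, Commute u₁ x) ∧ (∀ x ∈ B₀, Commute u₂ x) ∧
      cj u₂ s = s⁻¹ ∧ s ≠ 1 := by
  obtain ⟨C, hCR, W⟩ := H.wdata hB hB1 hE hEB
  obtain ⟨Y, hY, K, hKE, hel, hc, hK, hfix⟩ := W.chain 1 (by omega)
  obtain ⟨h, hh, s, hs, hs1, hsh, he1, he2, hKc⟩ := W.step hKE hY hel hfix (by omega)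
  have hfix' := W.fix_sup hs hKE he1 hfix
  have h2 : 2 ≤ Nat.card (K ⊓ Subgroup.centralizer {s} : Subgroup G) := by omega
  haveI := Finite.one_lt_card_iff_nontrivial.1 h2
  obtain ⟨z, hz⟩ := exists_ne (1 : ↥(K ⊓ Subgroup.centralizer {s}))
  have hBR : B ≤ R p B := le_inf (le_O hB.isPGroup) fun b hb =>
    Subgroup.mem_centralizer_iff.2 fun c hcc => hB.1 c hcc b hb
  exact ⟨z, h, B ⊔ Y, s, hKE (Subgroup.mem_inf.1 z.2).1, fun e => hz (Subtype.ext e), hKE hh,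
    le_sup_left, he1, sup_le (sup_le hBR (hY.trans hCR)) (Subgroup.zpowers_le.2 (hCR hs)),
    by rw [hc, pow_one], he2, fun x hx => hfix' z z.2 x hx, fun x hx => hfix h hh x hx, hsh, hs1⟩

end Cfsg.Agent.Solv.KlingerMason
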