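import Cfsg.Agent.Lib.Solv.KlingerMason.Setting

/-!
In a group of local characteristic `p` and characteristic 2 type, no elementary abelian `p`-group of
order at least `p ^ 3` normalizes a nontrivial 2-group.
-/

set_option autoImplicit false
set_option linter.style.haveILetI false

open scoped commutatorElement

namespace Cfsg.Agent.Solv.KlingerMason

variable {G : Type*} [Group G] [Finite G] {p : ℕ} [hp : Fact p.Prime] {k : ℕ}

theorem grow {I E : Subgroup G} (hE : El 2 E) (hI : ∀ g ∈ E, ∀ i ∈ I, Commute g i) {x : G}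
    (hx2 : x * x = 1) (hx : ∀ e ∈ E, Commute x e) (hxE : x ∉ E) (hxI : ∀ i ∈ I, Commute x i) :
    El 2 (E ⊔ Subgroup.zpowers x) ∧
      Nat.card (E ⊔ Subgroup.zpowers x : Subgroup G) = Nat.card E * 2 ∧
      ∀ g ∈ E ⊔ Subgroup.zpowers x, ∀ i ∈ I, Commute g i := by
  haveI : Fact (Nat.Prime 2) := ⟨Nat.prime_two⟩
  obtain ⟨h1, h2⟩ := hE.extend (by rw [pow_two, hx2]) hx hxE
  refine ⟨h1, h2, fun g hg i hi => ?_⟩
  obtain ⟨e, he, j, rfl⟩ := (mem_sup_zpowers hx).1 hg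
  exact (hI e he i hi).mul_left ((hxI i hi).zpow_left j)

theorem card_two {u : G} (hu1 : u ≠ 1) (hu2 : u ^ 2 = 1) : Nat.card (Subgroup.zpowers u) = 2 := by
  haveI : Fact (Nat.Prime 2) := ⟨Nat.prime_two⟩
  rw [Nat.card_zpowers, orderOf_eq_prime hu2 hu1]

theorem eq_one_of_two_p {T : Subgroup G} (hodd : Odd p) (hT : IsPGroup 2 T) {c : G} (hc : c ∈ T)
    (h : c ^ p = 1) : c = 1 := by
  obtain ⟨j, hj⟩ := hT ⟨c, hc⟩
  have h2 := pow_gcd_eq_one.2 ⟨h, (congrArg Subtype.val hj : c ^ 2 ^ j = 1)⟩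
  rwa [(hodd.coprime_two_right.pow_right j).gcd_eq_one, pow_one] at h2

theorem exists_central_inv {K : Subgroup G} (hK : IsPGroup 2 K) (hK1 : K ≠ ⊥) :
    ∃ v ∈ K, v ≠ 1 ∧ v ^ 2 = 1 ∧ ∀ t ∈ K, Commute v t := by
  haveI : Fact (Nat.Prime 2) := ⟨Nat.prime_two⟩
  haveI : Nontrivial K := K.nontrivial_iff_ne_bot.2 hK1
  haveI : Nontrivial (Subgroup.center K) := hK.center_nontrivial
  obtain ⟨z, hz⟩ := exists_ne (1 : Subgroup.center K)
  have key : ∀ j : ℕ, ∀ z : K, z ∈ Subgroup.center K → z ≠ 1 → z ^ 2 ^ j = 1 →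
      ∃ v : K, v ∈ Subgroup.center K ∧ v ≠ 1 ∧ v ^ 2 = 1 := by
    intro j
    induction j with
    | zero => intro z _ h1 h2; rw [pow_zero, pow_one] at h2; exact absurd h2 h1
    | succ j ih =>
      intro z hz h1 h2
      by_cases hsq : z ^ 2 = 1
      · exact ⟨z, hz, h1, hsq⟩
      · exact ih _ (pow_mem hz 2) hsq (by rw [← pow_mul, ← pow_succ', h2])
  obtain ⟨j, hj⟩ := hK z.1
  obtain ⟨v, hv, hv1, hv2⟩ := key j z.1 z.2 (fun e => hz (Subtype.ext e)) hj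
  exact ⟨v, v.2, fun e => hv1 (Subtype.ext e), congrArg Subtype.val hv2,
    fun t ht => (congrArg Subtype.val (Subgroup.mem_center_iff.1 hv ⟨t, ht⟩)).symm⟩

/-- Some elementary abelian subgroup of maximal order centralizes an involution. -/
theorem Hyp.exists_inv (H : Hyp G p k) {A T₀ : Subgroup G} (hA : El p A) (hc : Nat.card A = p ^ k)
    (hT : IsPGroup 2 T₀) (hT1 : T₀ ≠ ⊥) (hAT : A ≤ Subgroup.normalizer (T₀ : Set G)) :
    ∃ u : G, u ≠ 1 ∧ u ^ 2 = 1 ∧ ∀ a ∈ A, Commute a u := by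
  by_contra hno
  push Not at hno
  haveI : Fact (Nat.Prime 2) := ⟨Nat.prime_two⟩
  obtain ⟨T, hTdef⟩ : ∃ T, T = O 2 T₀ := ⟨_, rfl⟩
  have hT2 : IsPGroup 2 T := hTdef ▸ isPGroup_O 2 T₀
  have hTb : T ≠ ⊥ := fun e => hT1 (le_bot_iff.1 ((le_O hT).trans_eq (hTdef ▸ e)))
  have hAn : ∀ a ∈ A, ∀ t ∈ T, cj a t ∈ T := fun a ha t ht =>
    hTdef ▸ normalizer_le_O 2 T₀ (hAT ha) (hTdef ▸ ht)
  have hco : ∀ K : Subgroup G, IsPGroup 2 K → (Nat.card A).Coprime (Nat.card K) := fun K hK => by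
    obtain ⟨j, hj⟩ := IsPGroup.iff_card.1 hK
    rw [hj, hc]
    exact Nat.Coprime.pow k j H.odd.coprime_two_right
  -- nothing in `T` is fixed by `A`
  have hfix : ∀ t ∈ T, (∀ a ∈ A, Commute a t) → t = 1 := by
    have key : ∀ (j : ℕ) (t : G), (∀ a ∈ A, Commute a t) → t ^ 2 ^ j = 1 → t = 1 := by
      intro j
      induction j with
      | zero => intro t _ h; rwa [pow_zero, pow_one] at h
      | succ j ih =>
        intro t ht h
        have h2 : t ^ 2 = 1 :=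
          ih _ (fun a ha => (ht a ha).pow_right 2) (by rw [← pow_mul, ← pow_succ', h])
        by_contra ht1
        obtain ⟨a, ha, hna⟩ := hno t ht1 h2
        exact hna (ht a ha)
    intro t ht htA
    obtain ⟨j, hj⟩ := hT2 ⟨t, ht⟩
    exact key j t htA (congrArg Subtype.val hj)
  let V : Subgroup G :=
    { carrier := {t | t ∈ T ∧ (∀ s ∈ T, Commute t s) ∧ t ^ 2 = 1}
      one_mem' := ⟨one_mem _, fun s _ => Commute.one_left s, one_pow _⟩
      mul_mem' := fun {x y} hx hy => ⟨mul_mem hx.1 hy.1, fun s hs => (hx.2.1 s hs).mul_left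
        (hy.2.1 s hs), by rw [(hx.2.1 y hy.1).mul_pow, hx.2.2, hy.2.2, one_mul]⟩
      inv_mem' := fun {x} hx => ⟨inv_mem hx.1, fun s hs => (hx.2.1 s hs).inv_left,
        by rw [inv_pow, hx.2.2, inv_one]⟩ }
  obtain ⟨v₀, hv₀, hv₀1, hv₀2, hv₀c⟩ := exists_central_inv hT2 hTb
  obtain ⟨a₀, ha₀, hav₀⟩ : ∃ a ∈ A, ¬ Commute a v₀ := by
    by_contra hno'
    push Not at hno'
    exact hv₀1 (hfix v₀ hv₀ hno')
  have hVn : A ≤ Subgroup.normalizer (V : Set G) := fun b hb => Fusion.mem_normalizer_of_cj_le (by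
    rintro _ ⟨y, ⟨hy, hyc, hy2⟩, rfl⟩
    refine ⟨hAn b hb y hy, fun s hs => ?_, by rw [← map_pow, hy2, map_one]⟩
    have h1 : Commute (cj b y) (cj b (cj b⁻¹ s)) := cj_commute (hyc _ (hAn _ (inv_mem hb) s hs))
    rwa [← cj_mul, mul_inv_cancel, cj_one] at h1)
  obtain ⟨B, hBA, hBc, v, hv, hvB, hav⟩ := gen_moved (K := V) hA hVn
    (hco V (hT2.to_le fun x hx => hx.1)) ha₀ ⟨hv₀, hv₀c, hv₀2⟩ hav₀
  -- `B` moves something in `T`
  obtain ⟨b₀, hb₀, hb₀1⟩ : ∃ b ∈ B, b ≠ 1 := by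
    by_contra hno'
    push Not at hno'
    rw [(Subgroup.eq_bot_iff_forall B).2 hno', Subgroup.card_bot, one_mul, hc] at hBc
    have := Nat.pow_right_injective hp.out.two_le ((pow_one p).trans hBc)
    have := H.k3
    omega
  obtain ⟨t, ht, hbt⟩ : ∃ t ∈ T, ¬ Commute b₀ t := by
    by_contra hno'
    push Not at hno'
    refine hb₀1 (H.char2 T₀ b₀ hT hT1 (hAT (hBA hb₀)) ?_ fun t ht => hno' t (hTdef ▸ ht))
    exact Nat.Coprime.coprime_dvd_left (orderOf_dvd_of_pow_eq_one (hA.2 b₀ (hBA hb₀)))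
      H.odd.coprime_two_right
  obtain ⟨B', hB'A, hB'c, y₀, hy₀, hy₀B', hby₀⟩ := gen_moved (K := T) hA
    (fun b hb => Fusion.mem_normalizer_of_cj_le (by
      rintro _ ⟨y, hy, rfl⟩; exact hAn b hb y hy))
    (hco T hT2) (hBA hb₀) ht hbt
  have hne : B ≠ B' := fun e => hby₀ (hy₀B' b₀ (e ▸ hb₀))
  obtain ⟨hsup, hJ⟩ := hyper_mul' hA hc ⟨hBA, hBc⟩ ⟨hB'A, hB'c⟩ hne
  have two : ∀ x : G, (∀ h ∈ B, Commute h x) → (∀ h ∈ B', Commute h x) → ∀ a ∈ A, Commute a x := by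
    intro x h1 h2 a ha
    have : A ≤ Subgroup.centralizer ({x} : Set G) := by
      rw [← hsup]
      exact sup_le (fun h hh => Subgroup.mem_centralizer_singleton_iff.2 (h1 h hh).eq)
        (fun h hh => Subgroup.mem_centralizer_singleton_iff.2 (h2 h hh).eq)
    exact Subgroup.mem_centralizer_singleton_iff.1 (this ha)
  -- a central involution of the fixed points of `B'`
  obtain ⟨K, hK⟩ : ∃ K, K = T ⊓ Subgroup.centralizer (B' : Set G) := ⟨_, rfl⟩
  have hy₀K : y₀ ∈ K := hK ▸ Subgroup.mem_inf.2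
    ⟨hy₀, Subgroup.mem_centralizer_iff.2 fun h hh => (hy₀B' h hh).eq⟩
  have hKb : K ≠ ⊥ := fun e => by
    rw [e] at hy₀K
    rw [Subgroup.mem_bot.1 hy₀K] at hby₀
    exact hby₀ (Commute.one_right b₀)
  have hKT : K ≤ T := hK ▸ inf_le_left
  have hKB' : ∀ z ∈ K, ∀ h ∈ B', Commute h z := fun z hz h hh =>
    Subgroup.mem_centralizer_iff.1 (Subgroup.mem_inf.1 (hK ▸ hz)).2 h hh
  obtain ⟨y, hy, hy1, hy2, hyc⟩ := exists_central_inv (hT2.to_le hKT) hKb
  obtain ⟨b, hb, hby⟩ : ∃ b ∈ B, ¬ Commute b y := by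
    by_contra hno'
    push Not at hno'
    exact hy1 (hfix y (hKT hy) (two y hno' (hKB' y hy)))
  obtain ⟨a, ha, haw⟩ : ∃ a ∈ B', ¬ Commute a v := by
    by_contra hno'
    push Not at hno'
    exact hav (two v hvB hno' a₀ ha₀)
  obtain ⟨w, hw⟩ : ∃ w, w = cj a v := ⟨_, rfl⟩
  obtain ⟨y', hy'⟩ : ∃ y', y' = cj b y := ⟨_, rfl⟩
  have hwV : w ∈ V := hw ▸ conj_mem_of_mem_normalizer (hVn (hB'A ha)) hv
  have hy'K : y' ∈ K := by
    rw [hK]
    refine Subgroup.mem_inf.2 ⟨hy' ▸ hAn b (hBA hb) y (hKT hy), ?_⟩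
    refine Subgroup.mem_centralizer_iff.2 fun h hh => ?_
    refine (cj_fix.1 ?_).eq
    rw [hy', ← cj_mul, (hA.1 h (hB'A hh) b (hBA hb)).eq, cj_mul, cj_fix.2 (hKB' y hy h hh)]
  have hwB : ∀ h ∈ B, Commute h w := fun h hh => cj_fix.1 (by
    rw [hw, ← cj_mul, (hA.1 h (hBA hh) a (hB'A ha)).eq, cj_mul, cj_fix.2 (hvB h hh)])
  -- the group of order 16
  have hI : ∀ (x : G), (∀ h ∈ B, Commute h x) → ∀ i ∈ B ⊓ B', Commute x i :=
    fun x hx i hi => (hx i (Subgroup.mem_inf.1 hi).1).symm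
  have hI' : ∀ (x : G), (∀ h ∈ B', Commute h x) → ∀ i ∈ B ⊓ B', Commute x i :=
    fun x hx i hi => (hx i (Subgroup.mem_inf.1 hi).2).symm
  have sq : ∀ {x : G}, x ^ 2 = 1 → x * x = 1 := fun h => by rw [← pow_two]; exact h
  have hE1 : El 2 (Subgroup.zpowers v) := El.zpowers hv.2.2
  have hI1 : ∀ g ∈ Subgroup.zpowers v, ∀ i ∈ B ⊓ B', Commute g i := fun g hg i hi => by
    obtain ⟨j, rfl⟩ := Subgroup.mem_zpowers_iff.1 hg
    exact (hI v hvB i hi).zpow_left j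
  have hzv : ∀ e ∈ Subgroup.zpowers v, ∀ x ∈ T, Commute x e := fun e he x hx => by
    obtain ⟨j, rfl⟩ := Subgroup.mem_zpowers_iff.1 he
    exact ((hv.2.1 x hx).symm).zpow_right j
  have hv1 : v ≠ 1 := fun e => hav (e ▸ Commute.one_right a₀)
  obtain ⟨hE2, hc2, hI2⟩ := grow hE1 hI1 (sq hwV.2.2) (fun e he => hzv e he w hwV.1) (fun h => by
    rcases (mem_zpowers_two hv.2.2).1 h with e | e
    · exact hv1 ((MulEquiv.map_eq_one_iff (cj a)).1 (hw.symm.trans e))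
    · exact haw (cj_fix.1 (hw.symm.trans e))) (hI w hwB)
  have hB2 : ∀ e ∈ Subgroup.zpowers v ⊔ Subgroup.zpowers w, Commute b e := by
    intro e he
    obtain ⟨f, hf, i, rfl⟩ := (mem_sup_zpowers fun e he => hzv e he w hwV.1).1 he
    obtain ⟨j, rfl⟩ := Subgroup.mem_zpowers_iff.1 hf
    exact ((hvB b hb).zpow_right j).mul_right ((hwB b hb).zpow_right i)
  have hT2e : ∀ e ∈ Subgroup.zpowers v ⊔ Subgroup.zpowers w, ∀ x ∈ T, Commute x e := by
    intro e he x hx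
    obtain ⟨f, hf, i, rfl⟩ := (mem_sup_zpowers fun e he => hzv e he w hwV.1).1 he
    exact (hzv f hf x hx).mul_right ((hwV.2.1 x hx).symm.zpow_right i)
  obtain ⟨hE3, hc3, hI3⟩ := grow hE2 hI2 (sq hy2) (fun e he => hT2e e he y (hKT hy))
    (fun h => hby (hB2 y h)) (hI' y (hKB' y hy))
  have hy'c : ∀ e ∈ Subgroup.zpowers v ⊔ Subgroup.zpowers w ⊔ Subgroup.zpowers y, Commute y' e := by
    intro e he
    obtain ⟨f, hf, i, rfl⟩ := (mem_sup_zpowers fun e he => hT2e e he y (hKT hy)).1 he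
    exact (hT2e f hf y' (hKT hy'K)).mul_right ((hyc y' hy'K).symm.zpow_right i)
  obtain ⟨hE4, hc4, hI4⟩ := grow hE3 hI3 (sq (by rw [hy', ← map_pow, hy2, map_one])) hy'c (fun h => by
    rcases mem_sup_two (fun e he => hT2e e he y (hKT hy)) hy2 h with h | ⟨e, he, h⟩
    · refine hby (cj_fix.1 ((cj b).injective ?_))
      rw [← hy', cj_fix.2 (hB2 y' h)]
    · refine hby (cj_fix.1 ?_)
      have heT : e ∈ T := by
        rw [show e = y' * y⁻¹ by rw [h, mul_inv_cancel_right]]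
        exact mul_mem (hKT hy'K) (inv_mem (hKT hy))
      have hsh : cj b y = y * e := by rw [← hy', h, (hT2e e he y (hKT hy)).eq]
      rw [eq_one_of_two_p H.odd hT2 heT
        (pow_eq_one_of_shift (hA.2 b (hBA hb)) hsh (cj_fix.2 (hB2 e he))), mul_one] at hsh
      exact hsh) (hI' y' (hKB' y' hy'K))
  have := H.not_bound (hA.mono (inf_le_left.trans hBA)) hE4 hI4 2 (by omega)
    (by rw [pow_two, ← mul_assoc, hJ])
  rw [hc4, hc3, hc2, card_two hv1 hv.2.2] at this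
  omega

variable {u : G} {A D : Subgroup G}

/-- Two members, one with a noncentral involution in its `W`. -/
theorem Ctx.eight_of_inv (S : Ctx p k u A D) {B B' : Subgroup G} (hB : Member p A D B)
    (hB' : Member p A D B') (hne : B ≠ B')
    (hinvB : ∃ x ∈ W A D B, (∃ y ∈ W A D B, ¬ Commute x y) ∧ x * x = 1) :
    ∃ E : Subgroup G, El 2 E ∧ 8 ≤ Nat.card E ∧ ∀ g ∈ E, ∀ i ∈ B ⊓ B', Commute g i := by
  classical
  -- a noncentral element of one `W` is not fixed by the other hyperplane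
  have nc : ∀ {P P' : Subgroup G}, Member p A D P → Member p A D P' → P ≠ P' → ∀ x ∈ W A D P,
      ∀ y ∈ W A D P, ¬ Commute x y → ¬ ∀ h ∈ P', Commute h x := by
    intro P P' hP hP' hne x hx y hy hxy hfix
    exact hxy (S.fixed_central hP.1 (S.W_sq hx).1 (S.two_fix hP.1 hP'.1 hne
      (fun h hh => (mem_Fx.1 (S.W_le hP.1.1 hx)).2 h hh) hfix) hy)
  have hcomm : ∀ x ∈ W A D B, ∀ y ∈ W A D B', Commute x y := fun x hx y hy =>
    S.W_comm hB'.1 hB.1 hne.symm (S.W_le hB.1.1 hx) hy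
  have hIA : B ⊓ B' ≤ A := inf_le_left.trans hB.1.1
  have hU : ∀ {g : G}, g ∈ Subgroup.zpowers u → ∀ h ∈ A, Commute h g := fun {g} hg h hh => by
    obtain ⟨i, rfl⟩ := Subgroup.mem_zpowers_iff.1 hg
    exact (S.Au h hh).zpow_right i
  have hE1 : El 2 (Subgroup.zpowers u) := El.zpowers S.u2
  have hI1 : ∀ g ∈ Subgroup.zpowers u, ∀ i ∈ B ⊓ B', Commute g i :=
    fun g hg i hi => (hU hg i (hIA hi)).symm
  have huu : u * u = 1 := by rw [← pow_two]; exact S.u2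
  have fixB : ∀ x ∈ W A D B, ∀ h ∈ B, Commute h x := fun x hx h hh =>
    (mem_Fx.1 (S.W_le hB.1.1 hx)).2 h hh
  have fixB' : ∀ x ∈ W A D B', ∀ h ∈ B', Commute h x := fun x hx h hh =>
    (mem_Fx.1 (S.W_le hB'.1.1 hx)).2 h hh
  have notU : ∀ {P P' : Subgroup G}, Member p A D P → Member p A D P' → P ≠ P' → ∀ x ∈ W A D P,
      ∀ y ∈ W A D P, ¬ Commute x y → x ∉ Subgroup.zpowers u := fun hP hP' hne x hx y hy hxy hxu =>
    nc hP hP' hne x hx y hy hxy fun h hh => hU hxu h (hP'.1.1 hh)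
  obtain ⟨x, hx, ⟨x', hx', hxx'⟩, hx2⟩ := hinvB
  have hxD := (S.W_sq hx).1
  have hxu : ∀ e ∈ Subgroup.zpowers u, Commute x e := fun e he => S.u_comm hxD he
  obtain ⟨hE2, hc2, hI2⟩ := grow hE1 hI1 hx2 hxu (notU hB hB' hne x hx x' hx' hxx')
    (fun i hi => (fixB x hx i (Subgroup.mem_inf.1 hi).1).symm)
  rw [card_two S.u1 S.u2] at hc2
  have hB2 : ∀ e ∈ Subgroup.zpowers u ⊔ Subgroup.zpowers x, ∀ h ∈ B, Commute h e := by
    intro e he h hh
    obtain ⟨f, hf, i, rfl⟩ := (mem_sup_zpowers hxu).1 he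
    exact (hU hf h (hB.1.1 hh)).mul_right ((fixB x hx h hh).zpow_right i)
  by_cases hinvB' : ∃ y ∈ W A D B', (∃ y' ∈ W A D B', ¬ Commute y y') ∧ y * y = 1
  · obtain ⟨y, hy, ⟨y', hy', hyy'⟩, hy2⟩ := hinvB'
    obtain ⟨hE3, hc3, hI3⟩ := grow hE2 hI2 hy2 (fun e he => by
        obtain ⟨f, hf, i, rfl⟩ := (mem_sup_zpowers hxu).1 he
        exact (S.u_comm (S.W_sq hy).1 hf).mul_right ((hcomm x hx y hy).symm.zpow_right i))
      (fun h => nc hB' hB hne.symm y hy y' hy' hyy' (hB2 y h))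
      (fun i hi => (fixB' y hy i (Subgroup.mem_inf.1 hi).2).symm)
    exact ⟨_, hE3, by omega, hI3⟩
  push Not at hinvB'
  obtain ⟨w, hw, w', hw', hww'⟩ := S.W_nonabelian hB'
  have hw2 : w * w = u :=
    ((mem_zpowers_two S.u2).1 (S.W_sq hw).2).resolve_left (hinvB' w hw ⟨w', hw', hww'⟩)
  by_cases hs : ∃ s ∈ W A D B, Commute x s ∧ s * s = u
  · obtain ⟨s, hs, hxs, hs2⟩ := hs
    obtain ⟨hE3, hc3, hI3⟩ := grow hE2 hI2 (x := s * w)
      (by rw [(hcomm s hs w hw).symm.mul_mul_mul_comm, hs2, hw2, huu])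
      (fun e he => by
        obtain ⟨f, hf, i, rfl⟩ := (mem_sup_zpowers hxu).1 he
        exact (S.u_comm (mul_mem (S.W_sq hs).1 (S.W_sq hw).1) hf).mul_right
          ((hxs.symm.mul_left (hcomm x hx w hw).symm).zpow_right i))
      (fun h => by
        refine nc hB' hB hne.symm w hw w' hw' hww' fun b hb => ?_
        have := ((fixB s hs b hb).inv_right).mul_right (hB2 _ h b hb)
        rwa [inv_mul_cancel_left] at this)
      (fun i hi => ((fixB s hs i (Subgroup.mem_inf.1 hi).1).mul_right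
        (fixB' w hw i (Subgroup.mem_inf.1 hi).2)).symm)
    exact ⟨_, hE3, by omega, hI3⟩
  exfalso
  push Not at hs
  have hcx : ∀ s ∈ W A D B, Commute x s → s ∈ Subgroup.zpowers u ⊔ Subgroup.zpowers x := by
    intro s hsW hxs
    by_contra hsn
    have hs2 : s * s = 1 :=
      ((mem_zpowers_two S.u2).1 (S.W_sq hsW).2).resolve_right (hs s hsW hxs)
    obtain ⟨hE3, hc3, hI3⟩ := grow (I := B) hE2
      (fun g hg i hi => (hB2 g hg i hi).symm) hs2 (fun e he => by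
        obtain ⟨f, hf, i, rfl⟩ := (mem_sup_zpowers hxu).1 he
        exact (S.u_comm (S.W_sq hsW).1 hf).mul_right (hxs.symm.zpow_right i))
      hsn (fun i hi => (fixB s hsW i hi).symm)
    have := S.hyp.not_bound (S.elA.mono hB.1.1) hE3 hI3 1 (by omega)
      (by rw [pow_one, hB.1.2, S.cardA])
    omega
  obtain ⟨a, ha, hax⟩ : ∃ a ∈ A, ¬ Commute a x := by
    by_contra hno
    push Not at hno
    exact nc hB hB' hne x hx x' hx' hxx' fun h hh => hno h (hB'.1.1 hh)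
  have hx2' : x ^ 2 = 1 := by rw [pow_two, hx2]
  -- an element of `A` moving `x` moves it outside `⟨u, x⟩`
  have moveE : ∀ c ∈ A, ¬ Commute c x → cj c x ∉ Subgroup.zpowers u ⊔ Subgroup.zpowers x := by
    intro c hc hcx' h
    rcases mem_sup_two hxu hx2' h with h | ⟨e, he, h⟩
    · have h1 : cj c⁻¹ (cj c x) = cj c x := S.u_fix (inv_mem hc) h
      rw [← cj_mul, inv_mul_cancel, cj_one] at h1
      exact hcx' (cj_fix.1 h1.symm)
    · have heD : e ∈ D := by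
        rw [show e = cj c x * x⁻¹ by rw [h, mul_inv_cancel_right]]
        exact mul_mem (S.A_norm hc hxD) (inv_mem hxD)
      have hsh : cj c x = x * e := by rw [h, (hxu e he).eq]
      rw [S.shift_one hc heD hsh (S.u_fix hc he), mul_one] at hsh
      exact hcx' (cj_fix.1 hsh)
  obtain ⟨g₀, hg₀⟩ : ∃ g₀, g₀ = cj a x := ⟨_, rfl⟩
  obtain ⟨g₂, hg₂⟩ : ∃ g₂, g₂ = cj a g₀ := ⟨_, rfl⟩
  have hg₀W : g₀ ∈ W A D B := hg₀ ▸ S.W_inv hB.1.1 ha hx
  have hg₂W : g₂ ∈ W A D B := hg₂ ▸ S.W_inv hB.1.1 ha hg₀W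
  have hg₀2 : g₀ * g₀ = 1 := by rw [hg₀, ← map_mul, hx2, map_one]
  have hg₂2 : g₂ * g₂ = 1 := by rw [hg₂, ← map_mul, hg₀2, map_one]
  have hn₀ : ¬ Commute x g₀ := fun h => moveE a ha hax (hg₀ ▸ hcx g₀ hg₀W h)
  have haa : ¬ Commute (a * a) x := fun h => by
    obtain ⟨m, hm⟩ := S.hyp.odd
    have e : a = (a * a) ^ (m + 1) := by
      rw [← pow_two, ← pow_mul, show 2 * (m + 1) = 2 * m + 1 + 1 by ring, ← hm, pow_succ,
        S.apow ha, one_mul]
    exact hax (e.symm ▸ h.pow_left (m + 1))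
  have hn₂ : ¬ Commute x g₂ := fun h => moveE (a * a) (mul_mem ha ha) haa (by
    rw [cj_mul, ← hg₀, ← hg₂]; exact hcx g₂ hg₂W h)
  have hcg : ∀ g ∈ W A D B, ¬ Commute x g → cj g x = u * x := fun g hg hgx => by
    have h1 : cj g x = ⁅g, x⁆ * x := by rw [cj_apply, commutatorElement_def]; group
    rw [h1, ((mem_zpowers_two S.u2).1 (S.comm_mem (S.W_sq hg).1 hxD)).resolve_left
      (fun e => hgx (commutatorElement_eq_one_iff_commute.1 e).symm)]
  have hm : Commute x (g₀⁻¹ * g₂) := Commute.symm (cj_fix.1 (by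
    rw [cj_mul, hcg g₂ hg₂W hn₂, ← hcg g₀ hg₀W hn₀, ← cj_mul, inv_mul_cancel, cj_one]))
  rcases mem_sup_two hxu hx2' (hcx _ (mul_mem (inv_mem hg₀W) hg₂W) hm) with h | ⟨e, he, h⟩
  · have hsh : cj a g₀ = g₀ * (g₀⁻¹ * g₂) := by rw [mul_inv_cancel_left, hg₂]
    rw [S.shift_one ha (mul_mem (inv_mem (S.W_sq hg₀W).1) (S.W_sq hg₂W).1) hsh (S.u_fix ha h),
      mul_one] at hsh
    refine hax (cj_fix.1 ((cj a).injective ?_))
    rw [← hg₀]; exact hsh
  · refine hn₀ ?_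
    have h2 : g₂ = g₀ * e * x := by rw [mul_assoc, ← h, mul_inv_cancel_left]
    have he2 : e * e = 1 := by rw [← pow_two]; exact hE1.2 e he
    have h3 : g₀ * x * (g₀ * x) = 1 := by
      calc g₀ * x * (g₀ * x) = g₀ * x * (g₀ * x) * (e * e) := by rw [he2, mul_one]
        _ = g₂ * g₂ := by
          have hce : Commute e (g₀ * x) :=
            ((S.u_comm (S.W_sq hg₀W).1 he).mul_left (hxu e he)).symm
          rw [h2, show g₀ * e * x = g₀ * x * e by rw [mul_assoc, ← (hxu e he).eq, mul_assoc],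
            hce.mul_mul_mul_comm]
        _ = 1 := hg₂2
    calc x * g₀ = (g₀ * g₀) * (x * g₀) * (x * x) := by rw [hg₀2, hx2, one_mul, mul_one]
      _ = g₀ * (g₀ * x * (g₀ * x)) * x := by group
      _ = g₀ * x := by rw [h3, mul_one]

/-- Two members give a group of order 8 centralizing their intersection. -/
theorem Ctx.eight (S : Ctx p k u A D) {B B' : Subgroup G} (hB : Member p A D B)
    (hB' : Member p A D B') (hne : B ≠ B') :
    ∃ E : Subgroup G, El 2 E ∧ 8 ≤ Nat.card E ∧ ∀ g ∈ E, ∀ i ∈ B ⊓ B', Commute g i := by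
  classical
  -- a noncentral element of one `W` is not fixed by the other hyperplane
  have nc : ∀ {P P' : Subgroup G}, Member p A D P → Member p A D P' → P ≠ P' → ∀ x ∈ W A D P,
      ∀ y ∈ W A D P, ¬ Commute x y → ¬ ∀ h ∈ P', Commute h x := by
    intro P P' hP hP' hne x hx y hy hxy hfix
    exact hxy (S.fixed_central hP.1 (S.W_sq hx).1 (S.two_fix hP.1 hP'.1 hne
      (fun h hh => (mem_Fx.1 (S.W_le hP.1.1 hx)).2 h hh) hfix) hy)
  have hcomm : ∀ x ∈ W A D B, ∀ y ∈ W A D B', Commute x y := fun x hx y hy =>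
    S.W_comm hB'.1 hB.1 hne.symm (S.W_le hB.1.1 hx) hy
  have hIA : B ⊓ B' ≤ A := inf_le_left.trans hB.1.1
  have hU : ∀ {g : G}, g ∈ Subgroup.zpowers u → ∀ h ∈ A, Commute h g := fun {g} hg h hh => by
    obtain ⟨i, rfl⟩ := Subgroup.mem_zpowers_iff.1 hg
    exact (S.Au h hh).zpow_right i
  have hE1 : El 2 (Subgroup.zpowers u) := El.zpowers S.u2
  have hI1 : ∀ g ∈ Subgroup.zpowers u, ∀ i ∈ B ⊓ B', Commute g i :=
    fun g hg i hi => (hU hg i (hIA hi)).symm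
  have huu : u * u = 1 := by rw [← pow_two]; exact S.u2
  have fixB : ∀ x ∈ W A D B, ∀ h ∈ B, Commute h x := fun x hx h hh =>
    (mem_Fx.1 (S.W_le hB.1.1 hx)).2 h hh
  have fixB' : ∀ x ∈ W A D B', ∀ h ∈ B', Commute h x := fun x hx h hh =>
    (mem_Fx.1 (S.W_le hB'.1.1 hx)).2 h hh
  have notU : ∀ {P P' : Subgroup G}, Member p A D P → Member p A D P' → P ≠ P' → ∀ x ∈ W A D P,
      ∀ y ∈ W A D P, ¬ Commute x y → x ∉ Subgroup.zpowers u := fun hP hP' hne x hx y hy hxy hxu =>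
    nc hP hP' hne x hx y hy hxy fun h hh => hU hxu h (hP'.1.1 hh)
  by_cases hinvB : ∃ x ∈ W A D B, (∃ y ∈ W A D B, ¬ Commute x y) ∧ x * x = 1
  · exact S.eight_of_inv hB hB' hne hinvB
  · -- no noncentral involution in `W B`
    by_cases hinvB' : ∃ y ∈ W A D B', (∃ y' ∈ W A D B', ¬ Commute y y') ∧ y * y = 1
    · -- symmetric to the previous case
      obtain ⟨E, h1, h2, h3⟩ := S.eight_of_inv hB' hB hne.symm hinvB'
      exact ⟨E, h1, h2, fun g hg i hi => h3 g hg i (inf_comm B B' ▸ hi)⟩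
    push Not at hinvB hinvB'
    obtain ⟨w₁, hw₁, w₂, hw₂, hw⟩ := S.W_nonabelian hB
    obtain ⟨v₁, hv₁, v₂, hv₂, hv⟩ := S.W_nonabelian hB'
    have squ : ∀ {P : Subgroup G}, ∀ x ∈ W A D P, x * x ≠ 1 → x * x = u := fun x hx h =>
      ((mem_zpowers_two S.u2).1 (S.W_sq hx).2).resolve_left h
    have comu : ∀ {x y : G}, x ∈ D → y ∈ D → ¬ Commute x y → x * y = u * (y * x) := by
      intro x y hxD hyD hn
      rw [← ((mem_zpowers_two S.u2).1 (S.comm_mem hxD hyD)).resolve_left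
        (fun e => hn (commutatorElement_eq_one_iff_commute.1 e)), commutatorElement_def]
      group
    have sq1 : ∀ w ∈ W A D B, (∃ y ∈ W A D B, ¬ Commute w y) → ∀ v ∈ W A D B',
        (∃ y ∈ W A D B', ¬ Commute v y) → w * v * (w * v) = 1 := fun w hw hwy v hv hvy => by
      rw [(hcomm w hw v hv).symm.mul_mul_mul_comm, squ w hw (hinvB w hw hwy),
        squ v hv (hinvB' v hv hvy), huu]
    have hD : ∀ {P : Subgroup G}, ∀ x ∈ W A D P, x ∈ D := fun x hx => (S.W_sq hx).1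
    have hau : ∀ e ∈ Subgroup.zpowers u, Commute (w₁ * v₁) e := fun e he =>
      S.u_comm (mul_mem (hD _ hw₁) (hD _ hv₁)) he
    have h12 : Commute (w₂ * v₂) (w₁ * v₁) := by
      have e1 := comu (hD _ hw₂) (hD _ hw₁) (fun h => hw h.symm)
      have e2 := comu (hD _ hv₂) (hD _ hv₁) (fun h => hv h.symm)
      have hcu : Commute (w₁ * w₂) u := (S.Du _ (mul_mem (hD _ hw₁) (hD _ hw₂))).symm
      show w₂ * v₂ * (w₁ * v₁) = w₁ * v₁ * (w₂ * v₂)
      rw [(hcomm w₁ hw₁ v₂ hv₂).symm.mul_mul_mul_comm, (hcomm w₂ hw₂ v₁ hv₁).symm.mul_mul_mul_comm,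
        e1, e2]
      calc u * (w₁ * w₂) * (u * (v₁ * v₂)) = u * ((w₁ * w₂) * u) * (v₁ * v₂) := by group
        _ = w₁ * w₂ * (v₁ * v₂) := by rw [hcu.eq, ← mul_assoc u u, huu, one_mul]
    have hIw : ∀ w ∈ W A D B, ∀ v ∈ W A D B', ∀ i ∈ B ⊓ B', Commute (w * v) i :=
      fun w hw v hv i hi => ((fixB w hw i (Subgroup.mem_inf.1 hi).1).mul_right
        (fixB' v hv i (Subgroup.mem_inf.1 hi).2)).symm
    have hwv : ∀ w ∈ W A D B, ∀ v ∈ W A D B', ∀ h ∈ B', Commute h (w * v) → Commute h w :=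
      fun w _ v hv h hh e => by
        have := e.mul_right (fixB' v hv h hh).inv_right
        rwa [mul_inv_cancel_right] at this
    obtain ⟨hE2, hc2, hI2⟩ := grow hE1 hI1 (sq1 w₁ hw₁ ⟨w₂, hw₂, hw⟩ v₁ hv₁ ⟨v₂, hv₂, hv⟩) hau
      (fun h => nc hB hB' hne w₁ hw₁ w₂ hw₂ hw fun b hb =>
        hwv w₁ hw₁ v₁ hv₁ b hb (hU h b (hB'.1.1 hb)))
      (hIw w₁ hw₁ v₁ hv₁)
    rw [card_two S.u1 S.u2] at hc2
    have hb2 : w₁ * v₁ * (w₁ * v₁) = 1 := sq1 w₁ hw₁ ⟨w₂, hw₂, hw⟩ v₁ hv₁ ⟨v₂, hv₂, hv⟩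
    obtain ⟨hE3, hc3, hI3⟩ := grow hE2 hI2
      (sq1 w₂ hw₂ ⟨w₁, hw₁, fun h => hw h.symm⟩ v₂ hv₂ ⟨v₁, hv₁, fun h => hv h.symm⟩)
      (fun e he => by
        obtain ⟨f, hf, i, rfl⟩ := (mem_sup_zpowers hau).1 he
        exact (S.u_comm (mul_mem (hD _ hw₂) (hD _ hv₂)) hf).mul_right (h12.zpow_right i))
      (fun h => by
        rcases mem_sup_two hau (by rw [pow_two]; exact hb2) h with h | ⟨e, he, h⟩
        · exact nc hB hB' hne w₂ hw₂ w₁ hw₁ (fun h => hw h.symm) fun b hb =>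
            hwv w₂ hw₂ v₂ hv₂ b hb (hU h b (hB'.1.1 hb))
        · -- `w₁⁻¹ w₂` is then fixed by both hyperplanes, hence central
          have hx : w₁⁻¹ * w₂ ∈ W A D B := mul_mem (inv_mem hw₁) hw₂
          refine nc hB hB' hne _ hx w₁ hw₁ (fun hc => hw ?_) fun b hb => ?_
          · have := (Commute.refl w₁).mul_left hc
            rw [mul_inv_cancel_left] at this
            exact this.symm
          · have e1 : w₁⁻¹ * w₂ = e * v₁ * v₂⁻¹ := by
              rw [show w₂ = e * (w₁ * v₁) * v₂⁻¹ by rw [← h, mul_inv_cancel_right]]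
              calc w₁⁻¹ * (e * (w₁ * v₁) * v₂⁻¹) = w₁⁻¹ * (e * w₁) * v₁ * v₂⁻¹ := by group
                _ = e * v₁ * v₂⁻¹ := by
                  rw [← (S.u_comm (hD _ hw₁) he).eq, inv_mul_cancel_left]
            rw [e1]
            exact ((hU he b (hB'.1.1 hb)).mul_right (fixB' v₁ hv₁ b hb)).mul_right
              (fixB' v₂ hv₂ b hb).inv_right)
      (hIw w₂ hw₂ v₂ hv₂)
    exact ⟨_, hE3, by omega, hI3⟩

end Cfsg.Agent.Solv.KlingerMason
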