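import Cfsg.Agent.Lib.Solv.KlingerMason.Hyp

/-!
An elementary abelian `p`-group of maximal order centralizing an involution, acting on a critical
subgroup of the 2-core of the centralizer of the involution.
-/

set_option autoImplicit false
set_option linter.style.haveILetI false

open scoped commutatorElement

namespace Cfsg.Agent.Solv.KlingerMason

variable {G : Type*} [Group G] [Finite G] {p : ℕ} [hp : Fact p.Prime] {k : ℕ}

/-- The data of the setting. -/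
structure Ctx (p k : ℕ) (u : G) (A D : Subgroup G) : Prop where
  hyp : Hyp G p k
  u1 : u ≠ 1
  u2 : u ^ 2 = 1
  elA : El p A
  cardA : Nat.card A = p ^ k
  Au : ∀ a ∈ A, Commute a u
  D2 : IsPGroup 2 D
  norm : ∀ g, Commute g u → ∀ x ∈ D, cj g x ∈ D
  Du : ∀ x ∈ D, Commute u x
  sq : ∀ x ∈ D, ∀ y ∈ D, Commute (x ^ 2) y
  cl : ∀ x ∈ D, ∀ y ∈ D, ∀ z ∈ D, Commute ⁅x, y⁆ z
  faith : ∀ g, Commute g u → (orderOf g).Coprime 2 → (∀ x ∈ D, Commute g x) → g = 1

omit [Finite G] hp in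
theorem mem_zpowers_two {u x : G} (hu : u ^ 2 = 1) : x ∈ Subgroup.zpowers u ↔ x = 1 ∨ x = u := by
  constructor
  · rintro ⟨i, rfl⟩
    obtain ⟨j, rfl | rfl⟩ := Int.even_or_odd' i
    · left
      show u ^ (2 * j) = 1
      rw [zpow_mul, show u ^ (2 : ℤ) = 1 by exact_mod_cast hu, one_zpow]
    · right
      show u ^ (2 * j + 1) = u
      rw [zpow_add, zpow_mul, show u ^ (2 : ℤ) = 1 by exact_mod_cast hu, one_zpow, one_mul, zpow_one]
  · rintro (rfl | rfl)
    · exact one_mem _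
    · exact Subgroup.mem_zpowers _

theorem Hyp.exists_ctx (H : Hyp G p k) {u : G} {A : Subgroup G} (u1 : u ≠ 1) (u2 : u ^ 2 = 1)
    (hA : El p A) (hc : Nat.card A = p ^ k) (hAu : ∀ a ∈ A, Commute a u) :
    ∃ D, Ctx p k u A D := by
  haveI : Fact (Nat.Prime 2) := ⟨Nat.prime_two⟩
  obtain ⟨T, hT⟩ : ∃ T, T = Subgroup.zpowers u := ⟨_, rfl⟩
  have hT2 : IsPGroup 2 T := hT ▸ (El.zpowers u2).isPGroup
  have hTb : T ≠ ⊥ := hT ▸ fun e => u1 (Subgroup.zpowers_eq_bot.1 e)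
  have hN : ∀ g, g ∈ Subgroup.normalizer (T : Set G) ↔ Commute g u := by
    intro g
    subst hT
    constructor
    · intro hg
      rcases (mem_zpowers_two u2).1
        (conj_mem_of_mem_normalizer hg (Subgroup.mem_zpowers u)) with e | e
      · exact absurd ((MulEquiv.map_eq_one_iff (cj g)).1 e) u1
      · exact cj_fix.1 e
    · intro hg
      exact Subgroup.centralizer_le_normalizer _ (Subgroup.mem_centralizer_iff.2 fun x hx => by
        obtain ⟨i, rfl⟩ := Subgroup.mem_zpowers_iff.1 hx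
        exact (hg.zpow_right i).symm.eq)
  obtain ⟨D, hDQ, hnorm, hsq, hcl, hdet, -⟩ := exists_crit (q := 2) (O 2 T) (isPGroup_O 2 T)
  have hQn : ∀ g, Commute g u → g ∈ Subgroup.normalizer (O 2 T : Set G) := fun g hg =>
    Fusion.mem_normalizer_of_cj_le (by
      rintro _ ⟨y, hy, rfl⟩; exact normalizer_le_O 2 T ((hN g).2 hg) hy)
  refine ⟨D, H, u1, u2, hA, hc, hAu, (isPGroup_O 2 T).to_le hDQ,
    fun g hg x hx => hnorm g (hQn g hg) x hx, fun x hx => ?_, hsq, hcl, fun g hg hco hfix => ?_⟩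
  · obtain ⟨y, -, hy⟩ := hDQ hx
    exact ((hN x).1 (hy ▸ y.2)).symm
  · exact H.char2 T g hT2 hTb ((hN g).2 hg) hco fun t ht => hdet g (hQn g hg) hco hfix t ht

variable {u : G} {A D : Subgroup G}

/-- A hyperplane of `A`. -/
def Hyper (p : ℕ) (A H : Subgroup G) : Prop := H ≤ A ∧ Nat.card H * p = Nat.card A

/-- The elements of `D` fixed by `H`. -/
def Fx (D H : Subgroup G) : Subgroup G := D ⊓ Subgroup.centralizer (H : Set G)

/-- A hyperplane with a fixed point moved by `A`. -/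
def Member (p : ℕ) (A D H : Subgroup G) : Prop :=
  Hyper p A H ∧ ∃ x ∈ Fx D H, ∃ a ∈ A, ¬ Commute a x

/-- `[C_D(H), A]`. -/
def W (A D H : Subgroup G) : Subgroup G :=
  Subgroup.closure {y | ∃ x ∈ Fx D H, ∃ a ∈ A, y = x⁻¹ * cj a x}

omit [Finite G] hp in
theorem mem_Fx {H : Subgroup G} {x : G} : x ∈ Fx D H ↔ x ∈ D ∧ ∀ h ∈ H, Commute h x := by
  rw [Fx, Subgroup.mem_inf, Subgroup.mem_centralizer_iff]; exact Iff.rfl

theorem hyper_mul' {A H H' : Subgroup G} (hA : El p A) (hAc : Nat.card A = p ^ k)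
    (hH : Hyper p A H) (hH' : Hyper p A H') (hne : H ≠ H') :
    H ⊔ H' = A ∧ Nat.card (H ⊓ H' : Subgroup G) * p * p = p ^ k := by
  have hnot : ¬ H' ≤ H := fun hle => hne (Subgroup.eq_of_le_of_card_ge hle
    (Nat.le_of_mul_le_mul_right (hH.2.trans hH'.2.symm).le hp.out.pos)).symm
  obtain ⟨b, hb, hbH⟩ := SetLike.not_le_iff_exists.1 hnot
  obtain ⟨-, hc1⟩ := (hA.mono hH.1).extend (hA.2 b (hH'.1 hb))
    (fun e he => hA.1 b (hH'.1 hb) e (hH.1 he)) hbH
  have heq : H ⊔ Subgroup.zpowers b = A := Subgroup.eq_of_le_of_card_ge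
    (sup_le hH.1 (Subgroup.zpowers_le.2 (hH'.1 hb))) (by rw [hc1, hH.2])
  have hsup : H ⊔ H' = A := le_antisymm (sup_le hH.1 hH'.1)
    (heq.ge.trans (sup_le_sup_left (Subgroup.zpowers_le.2 hb) H))
  refine ⟨hsup, ?_⟩
  have h := card_sup_mul_card_inf' H H' (fun x hx => Subgroup.centralizer_le_normalizer _
    (Subgroup.mem_centralizer_iff.2 fun e he => hA.1 e (hH.1 he) x (hH'.1 hx)))
  rw [hsup, hAc] at h
  have h1 := hH.2.trans hAc
  have h2 := hH'.2.trans hAc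
  have hpk : 0 < p ^ k := Nat.pow_pos hp.out.pos
  apply Nat.eq_of_mul_eq_mul_left hpk
  calc p ^ k * (Nat.card (H ⊓ H' : Subgroup G) * p * p)
      = Nat.card H * Nat.card H' * (p * p) := by rw [← h]; ring
    _ = (Nat.card H * p) * (Nat.card H' * p) := by ring
    _ = p ^ k * p ^ k := by rw [h1, h2]

variable (S : Ctx p k u A D)
include S

omit [Finite G] hp in
theorem Ctx.apow {a : G} (ha : a ∈ A) : a ^ p = 1 := S.elA.2 a ha

omit [Finite G] hp in
theorem Ctx.aco {a : G} (ha : a ∈ A) : (orderOf a).Coprime 2 :=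
  Nat.Coprime.coprime_dvd_left (orderOf_dvd_of_pow_eq_one (S.apow ha)) S.hyp.odd.coprime_two_right

omit [Finite G] hp in
theorem Ctx.A_norm {a x : G} (ha : a ∈ A) (hx : x ∈ D) : cj a x ∈ D := S.norm a (S.Au a ha) x hx

omit [Finite G] hp in
theorem Ctx.p_one {c : G} (hc : c ∈ D) (h : c ^ p = 1) : c = 1 := by
  obtain ⟨j, hj⟩ := S.D2 ⟨c, hc⟩
  have h2 := pow_gcd_eq_one.2 ⟨h, (congrArg Subtype.val hj : c ^ 2 ^ j = 1)⟩
  rwa [(S.hyp.odd.coprime_two_right.pow_right j).gcd_eq_one, pow_one] at h2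

omit [Finite G] hp in
/-- A shift by a fixed element of `D` is trivial. -/
theorem Ctx.shift_one {a x c : G} (ha : a ∈ A) (hc : c ∈ D) (h : cj a x = x * c)
    (hf : cj a c = c) : c = 1 :=
  S.p_one hc (pow_eq_one_of_shift (S.apow ha) h hf)

theorem Ctx.k_pos {B : Subgroup G} (hB : Nat.card B * p = p ^ k) : B ≠ ⊥ := fun e => by
  rw [e, Subgroup.card_bot, one_mul] at hB
  have := Nat.pow_right_injective hp.out.two_le ((pow_one p).trans hB)
  have := S.hyp.k3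
  omega

theorem Ctx.coprime_card {K : Subgroup G} (hK : IsPGroup 2 K) :
    (Nat.card A).Coprime (Nat.card K) := by
  haveI : Fact (Nat.Prime 2) := ⟨Nat.prime_two⟩
  obtain ⟨j, hj⟩ := IsPGroup.iff_card.1 hK
  rw [hj, S.cardA]
  exact Nat.Coprime.pow k j S.hyp.odd.coprime_two_right

/-- `A` centralizes the invariant abelian subgroups of `D`. -/
theorem Ctx.fixed_abelian {M : Subgroup G} (hMD : M ≤ D)
    (hM : ∀ x ∈ M, ∀ y ∈ M, Commute x y) (hinv : ∀ a ∈ A, ∀ x ∈ M, cj a x ∈ M) :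
    ∀ x ∈ M, ∀ a ∈ A, Commute a x := by
  haveI : Fact (Nat.Prime 2) := ⟨Nat.prime_two⟩
  let V : Subgroup G :=
    { carrier := {x | x ∈ M ∧ x ^ 2 = 1}
      one_mem' := ⟨one_mem _, one_pow _⟩
      mul_mem' := fun {x y} hx hy => ⟨mul_mem hx.1 hy.1, by
        rw [(hM x hx.1 y hy.1).mul_pow, hx.2, hy.2, one_mul]⟩
      inv_mem' := fun {x} hx => ⟨inv_mem hx.1, by rw [inv_pow, hx.2, inv_one]⟩ }
  have hinvol : ∀ v ∈ M, v ^ 2 = 1 → ∀ a ∈ A, Commute a v := by
    intro v hv hv2 a ha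
    by_contra hne
    have hVn : A ≤ Subgroup.normalizer (V : Set G) := fun b hb => Fusion.mem_normalizer_of_cj_le (by
      rintro _ ⟨y, hy, rfl⟩
      exact ⟨hinv b hb y hy.1, by rw [← map_pow, hy.2, map_one]⟩)
    obtain ⟨B, hBA, hBc, y, hy, hyB, hay⟩ := gen_moved (K := V) S.elA hVn
      (S.coprime_card ((S.D2.to_le hMD).to_le (fun x hx => hx.1))) ha ⟨hv, hv2⟩ hne
    obtain ⟨w, hw⟩ : ∃ w, w = cj a y := ⟨_, rfl⟩
    have hy2 : y ^ 2 = 1 := hy.2
    have hw2 : w ^ 2 = 1 := by rw [hw, ← map_pow, hy2, map_one]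
    have hyU : y ∉ Subgroup.zpowers u := fun h => by
      rcases (mem_zpowers_two S.u2).1 h with e | e
      · exact hay (e ▸ Commute.one_right a)
      · exact hay (e ▸ S.Au a ha)
    have hu : ∀ e ∈ Subgroup.zpowers u, ∀ z ∈ D, Commute z e := fun e he z hz => by
      obtain ⟨i, rfl⟩ := Subgroup.mem_zpowers_iff.1 he
      exact (S.Du z hz).symm.zpow_right i
    obtain ⟨he1, hc1⟩ := (El.zpowers S.u2).extend hy2 (fun e he => hu e he y (hMD hy.1)) hyU
    have hwM : w ∈ M := hw ▸ hinv a ha y hy.1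
    have hwE : ∀ e ∈ Subgroup.zpowers u ⊔ Subgroup.zpowers y, Commute w e := by
      intro e he
      obtain ⟨f, hf, i, rfl⟩ := (mem_sup_zpowers fun e he => hu e he y (hMD hy.1)).1 he
      exact (hu f hf w (hMD hwM)).mul_right ((hM w hwM y hy.1).zpow_right i)
    have hwn : w ∉ Subgroup.zpowers u ⊔ Subgroup.zpowers y := by
      intro h
      rcases mem_sup_two (fun e he => hu e he y (hMD hy.1)) hy2 h with h | ⟨f, hf, h⟩
      · refine hay ?_
        rcases (mem_zpowers_two S.u2).1 h with e | e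
        · rw [show y = 1 from (MulEquiv.map_eq_one_iff (cj a)).1 (hw.symm.trans e)]; exact Commute.one_right a
        · have : y = u := (cj a).injective (by rw [← hw, e, cj_fix.2 (S.Au a ha)])
          exact this ▸ S.Au a ha
      · have hfD : cj a f = f := by
          rcases (mem_zpowers_two S.u2).1 hf with e | e
          · rw [e, map_one]
          · rw [e, cj_fix.2 (S.Au a ha)]
        have hfc : f * y = y * f := (hu f hf y (hMD hy.1)).symm.eq
        have hshift : cj a y = y * f := by rw [← hw, h, hfc]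
        have hfD' : f ∈ D := by
          rw [show f = w * y⁻¹ by rw [h, mul_inv_cancel_right]]
          exact mul_mem (hMD hwM) (inv_mem (hMD hy.1))
        rw [S.shift_one ha hfD' hshift hfD, mul_one] at hshift
        exact hay (cj_fix.1 hshift)
    obtain ⟨he2, hc2⟩ := he1.extend hw2 hwE hwn
    have hcard : 8 ≤ Nat.card (Subgroup.zpowers u ⊔ Subgroup.zpowers y ⊔ Subgroup.zpowers w :
        Subgroup G) := by
      rw [hc2, hc1, Nat.card_zpowers, orderOf_eq_prime S.u2 S.u1]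
    have hwB : ∀ b ∈ B, Commute w b := fun b hb => by
      refine (cj_fix.1 ?_).symm
      rw [hw, ← cj_mul, (S.elA.1 b (hBA hb) a ha).eq, cj_mul, cj_fix.2 (hyB b hb)]
    have hEB : Subgroup.zpowers u ⊔ Subgroup.zpowers y ⊔ Subgroup.zpowers w ≤
        Subgroup.centralizer (B : Set G) := by
      refine sup_le (sup_le ?_ ?_) ?_ <;> refine Subgroup.zpowers_le.2
        (Subgroup.mem_centralizer_iff.2 fun b hb => ?_)
      · exact (S.Au b (hBA hb)).eq
      · exact (hyB b hb).eq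
      · exact (hwB b hb).symm.eq
    have hBc' : Nat.card B * p ^ 1 = p ^ k := by rw [pow_one, hBc, S.cardA]
    have := S.hyp.not_bound (S.elA.mono hBA) he2
      (fun g hg b hb => (Subgroup.mem_centralizer_iff.1 (hEB hg) b hb).symm) 1 (by omega) hBc'
    omega
  suffices key : ∀ (j : ℕ) (x : G), x ∈ M → x ^ 2 ^ j = 1 → ∀ a ∈ A, Commute a x by
    intro x hx
    obtain ⟨j, hj⟩ := S.D2 ⟨x, hMD hx⟩
    exact key j x hx (congrArg Subtype.val hj)
  intro j
  induction j with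
  | zero => intro x _ hx a _; rw [pow_zero, pow_one] at hx; rw [hx]; exact Commute.one_right a
  | succ j ih =>
    intro x hx hpow a ha
    have hsqf : cj a (x ^ 2) = x ^ 2 :=
      cj_fix.2 (ih _ (pow_mem hx 2) (by rw [← pow_mul, ← pow_succ', hpow]) a ha)
    obtain ⟨c, hc⟩ : ∃ c, c = x⁻¹ * cj a x := ⟨_, rfl⟩
    have hcM : c ∈ M := hc ▸ mul_mem (inv_mem hx) (hinv a ha x hx)
    have hc2 : c ^ 2 = 1 := by
      rw [hc, (hM _ (inv_mem hx) _ (hinv a ha x hx)).mul_pow, ← map_pow, hsqf, inv_pow,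
        inv_mul_cancel]
    have hsh : cj a x = x * c := by rw [hc, mul_inv_cancel_left]
    rw [S.shift_one ha (hMD hcM) hsh (cj_fix.2 (hinvol c hcM hc2 a ha)), mul_one] at hsh
    exact cj_fix.1 hsh

/-- `A` centralizes `Z(D)`. -/
theorem Ctx.center_fixed {z : G} (hz : z ∈ D) (hzc : ∀ x ∈ D, Commute z x) :
    ∀ a ∈ A, Commute a z := by
  let M : Subgroup G := D ⊓ Subgroup.centralizer (D : Set G)
  refine S.fixed_abelian (M := M) inf_le_left
    (fun x hx y hy => (Subgroup.mem_centralizer_iff.1 (Subgroup.mem_inf.1 hx).2 y hy.1).symm)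
    (fun a ha x hx => Subgroup.mem_inf.2 ⟨S.A_norm ha hx.1, Subgroup.mem_centralizer_iff.2 ?_⟩) z
    (Subgroup.mem_inf.2 ⟨hz, Subgroup.mem_centralizer_iff.2 fun x hx => (hzc x hx).symm.eq⟩)
  intro y hy
  have hy' : cj a⁻¹ y ∈ D := S.A_norm (inv_mem ha) hy
  have h1 : Commute (cj a (cj a⁻¹ y)) (cj a x) :=
    cj_commute (Subgroup.mem_centralizer_iff.1 (Subgroup.mem_inf.1 hx).2 _ hy')
  rwa [← cj_mul, mul_inv_cancel, cj_one] at h1

/-- The involutions of `Z(D)` lie in `⟨u⟩`. -/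
theorem Ctx.center_inv {z : G} (hz : z ∈ D) (hzc : ∀ x ∈ D, Commute z x) (hz2 : z ^ 2 = 1) :
    z ∈ Subgroup.zpowers u := by
  by_contra hzu
  haveI : Fact (Nat.Prime 2) := ⟨Nat.prime_two⟩
  obtain ⟨he, hc⟩ := (El.zpowers S.u2).extend hz2 (fun e he => by
    obtain ⟨i, rfl⟩ := Subgroup.mem_zpowers_iff.1 he
    exact (S.Du z hz).symm.zpow_right i) hzu
  have hE : Subgroup.zpowers u ⊔ Subgroup.zpowers z ≤ Subgroup.centralizer (A : Set G) :=
    sup_le (Subgroup.zpowers_le.2 (Subgroup.mem_centralizer_iff.2 fun a ha => (S.Au a ha).eq))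
      (Subgroup.zpowers_le.2 (Subgroup.mem_centralizer_iff.2 fun a ha =>
        (S.center_fixed hz hzc a ha).eq))
  have := S.hyp.not_bound S.elA he
    (fun g hg b hb => (Subgroup.mem_centralizer_iff.1 (hE hg) b hb).symm) 0 (by omega)
    (by rw [pow_zero, mul_one, S.cardA])
  rw [hc, Nat.card_zpowers, orderOf_eq_prime S.u2 S.u1] at this
  omega

/-- `D' ≤ ⟨u⟩`. -/
theorem Ctx.comm_mem {x y : G} (hx : x ∈ D) (hy : y ∈ D) : ⁅x, y⁆ ∈ Subgroup.zpowers u := by
  refine S.center_inv ?_ (fun z hz => S.cl x hx y hy z hz) ?_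
  · rw [commutatorElement_def]
    exact mul_mem (mul_mem (mul_mem hx hy) (inv_mem hx)) (inv_mem hy)
  · rw [pow_two, ← comm_mul_left (S.cl x hx y hy x hx).symm, ← pow_two]
    exact commutatorElement_eq_one_iff_commute.2 (S.sq x hx y hy)

omit [Finite G] hp in
theorem Ctx.u_fix {a c : G} (ha : a ∈ A) (hc : c ∈ Subgroup.zpowers u) : cj a c = c := by
  obtain ⟨i, rfl⟩ := Subgroup.mem_zpowers_iff.1 hc
  exact cj_fix.2 ((S.Au a ha).zpow_right i)

omit [Finite G] hp in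
theorem Ctx.u_comm {x c : G} (hx : x ∈ D) (hc : c ∈ Subgroup.zpowers u) : Commute x c := by
  obtain ⟨i, rfl⟩ := Subgroup.mem_zpowers_iff.1 hc
  exact (S.Du x hx).symm.zpow_right i

/-- A member avoiding a given element. -/
theorem Ctx.exists_member {a : G} (ha : a ∈ A) (ha1 : a ≠ 1) :
    ∃ H, Member p A D H ∧ a ∉ H := by
  have hmv : ∃ x ∈ D, ¬ Commute a x := by
    by_contra hno
    push Not at hno
    exact ha1 (S.faith a (S.Au a ha) (S.aco ha) hno)
  obtain ⟨x, hx, hax⟩ := hmv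
  obtain ⟨H, hHA, hHc, y, hy, hyH, hay⟩ := gen_moved (K := D) S.elA
    (fun b hb => Fusion.mem_normalizer_of_cj_le (by
      rintro _ ⟨z, hz, rfl⟩; exact S.A_norm hb hz))
    (S.coprime_card S.D2) ha hx hax
  exact ⟨H, ⟨⟨hHA, hHc⟩, y, mem_Fx.2 ⟨hy, hyH⟩, a, ha, hay⟩, fun h => hay (hyH a h)⟩

theorem Ctx.exists_other {H : Subgroup G} (hH : Hyper p A H) :
    ∃ H', Member p A D H' ∧ H' ≠ H := by
  have hb : H ≠ ⊥ := S.k_pos (by rw [hH.2, S.cardA])
  obtain ⟨a, ha, ha1⟩ := (Subgroup.ne_bot_iff_exists_ne_one.1 hb : ∃ a : H, a ≠ 1) |>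
    fun ⟨a, h⟩ => (⟨a.1, a.2, fun e => h (Subtype.ext e)⟩ : ∃ a ∈ H, a ≠ 1)
  obtain ⟨H', hH', haH'⟩ := S.exists_member (hH.1 ha) ha1
  exact ⟨H', hH', fun e => haH' (e ▸ ha)⟩

theorem Ctx.hyper_mul {H H' : Subgroup G} (hH : Hyper p A H) (hH' : Hyper p A H') (hne : H ≠ H') :
    H ⊔ H' = A ∧ Nat.card (H ⊓ H' : Subgroup G) * p * p = p ^ k :=
  hyper_mul' S.elA S.cardA hH hH' hne

/-- An element fixed by two hyperplanes is fixed by `A`. -/
theorem Ctx.two_fix {H H' : Subgroup G} (hH : Hyper p A H) (hH' : Hyper p A H') (hne : H ≠ H')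
    {x : G} (h1 : ∀ h ∈ H, Commute h x) (h2 : ∀ h ∈ H', Commute h x) : ∀ a ∈ A, Commute a x := by
  have : A ≤ Subgroup.centralizer ({x} : Set G) := by
    rw [← (S.hyper_mul hH hH' hne).1]
    exact sup_le (fun h hh => Subgroup.mem_centralizer_singleton_iff.2 (h1 h hh).eq)
      (fun h hh => Subgroup.mem_centralizer_singleton_iff.2 (h2 h hh).eq)
  exact fun a ha => Subgroup.mem_centralizer_singleton_iff.1 (this ha)

omit [Finite G] hp in
theorem Ctx.W_le {H : Subgroup G} (hH : H ≤ A) : W A D H ≤ Fx D H := by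
  rw [W, Subgroup.closure_le]
  rintro _ ⟨x, hx, a, ha, rfl⟩
  obtain ⟨hxD, hxH⟩ := mem_Fx.1 hx
  refine mem_Fx.2 ⟨mul_mem (inv_mem hxD) (S.A_norm ha hxD), fun h hh => cj_fix.1 ?_⟩
  rw [map_mul, map_inv, cj_fix.2 (hxH h hh), ← cj_mul, (S.elA.1 h (hH hh) a ha).eq, cj_mul,
    cj_fix.2 (hxH h hh)]

omit [Finite G] hp in
theorem Ctx.W_inv {H : Subgroup G} (hH : H ≤ A) {a w : G} (ha : a ∈ A) (hw : w ∈ W A D H) :
    cj a w ∈ W A D H := by
  have : W A D H ≤ (W A D H).comap (cj a).toMonoidHom := by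
    conv_lhs => rw [W]
    rw [Subgroup.closure_le]
    rintro _ ⟨x, hx, b, hb, rfl⟩
    obtain ⟨hxD, hxH⟩ := mem_Fx.1 hx
    refine Subgroup.subset_closure ⟨cj a x, mem_Fx.2 ⟨S.A_norm ha hxD, fun h hh => cj_fix.1 ?_⟩,
      b, hb, ?_⟩
    · rw [← cj_mul, (S.elA.1 h (hH hh) a ha).eq, cj_mul, cj_fix.2 (hxH h hh)]
    · show cj a (x⁻¹ * cj b x) = _
      rw [map_mul, map_inv, ← cj_mul, (S.elA.1 a ha b hb).eq, cj_mul]
  exact this hw

/-- The squares of elements of `W` lie in `⟨u⟩`. -/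
theorem Ctx.W_sq {H : Subgroup G} {g : G} (hg : g ∈ W A D H) :
    g ∈ D ∧ g * g ∈ Subgroup.zpowers u := by
  let T : Subgroup G :=
    { carrier := {g | g ∈ D ∧ g * g ∈ Subgroup.zpowers u}
      one_mem' := ⟨one_mem _, by rw [mul_one]; exact one_mem _⟩
      mul_mem' := fun {g h} hg hh => ⟨mul_mem hg.1 hh.1, by
        rw [← pow_two, sq_mul]
        exact mul_mem (mul_mem hg.2 (S.comm_mem (inv_mem hg.1) hh.1)) hh.2⟩
      inv_mem' := fun {g} hg => ⟨inv_mem hg.1, by rw [← mul_inv_rev]; exact inv_mem hg.2⟩ }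
  refine (Subgroup.closure_le T).2 ?_ hg
  rintro _ ⟨x, hx, a, ha, rfl⟩
  obtain ⟨hxD, -⟩ := mem_Fx.1 hx
  have hyD := S.A_norm ha hxD
  refine ⟨mul_mem (inv_mem hxD) hyD, ?_⟩
  have hc := S.center_fixed (pow_mem hxD 2) (fun z hz => S.sq x hxD z hz) a ha
  have hcomm : Commute (x⁻¹ * x⁻¹) ⁅x⁻¹⁻¹, cj a x⁆ :=
    S.u_comm (mul_mem (inv_mem hxD) (inv_mem hxD)) (by rw [inv_inv]; exact S.comm_mem hxD hyD)
  rw [← pow_two, sq_mul, hcomm.eq, mul_assoc, ← map_mul, ← pow_two x, cj_fix.2 hc, pow_two,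
    show x⁻¹ * x⁻¹ * (x * x) = 1 by group, mul_one, inv_inv]
  exact S.comm_mem hxD hyD

/-- `[C_D(H), A]` commutes with the fixed points of any other hyperplane. -/
theorem Ctx.W_comm {H H' : Subgroup G} (hH : Hyper p A H) (hH' : Hyper p A H') (hne : H ≠ H')
    {w g : G} (hw : w ∈ Fx D H') (hg : g ∈ W A D H) : Commute w g := by
  suffices h : W A D H ≤ Subgroup.centralizer ({w} : Set G) from
    (Subgroup.mem_centralizer_singleton_iff.1 (h hg)).symm
  rw [W, Subgroup.closure_le]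
  rintro _ ⟨y, hy, a, ha, rfl⟩
  obtain ⟨hyD, hyH⟩ := mem_Fx.1 hy
  obtain ⟨hwD, hwH⟩ := mem_Fx.1 hw
  have hn : H ≤ Subgroup.normalizer (H' : Set G) := fun x hx => Subgroup.centralizer_le_normalizer _
    (Subgroup.mem_centralizer_iff.2 fun e he => S.elA.1 e (hH'.1 he) x (hH.1 hx))
  have ha' : a ∈ H' ⊔ H := by rw [sup_comm, (S.hyper_mul hH hH' hne).1]; exact ha
  rw [← SetLike.mem_coe, Subgroup.coe_mul_of_right_le_normalizer_left H' H hn, Set.mem_mul] at ha'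
  obtain ⟨h', hh', h, hh, rfl⟩ := ha'
  have e1 : cj (h' * h) y = cj h' y := by rw [cj_mul, cj_fix.2 (hyH h hh)]
  rw [e1]
  obtain ⟨c, hc⟩ : ∃ c, c = ⁅w, y⁆ := ⟨_, rfl⟩
  have hy1 : cj w y = c * y := by rw [hc, cj_apply, commutatorElement_def]; group
  have hy2 : cj w (cj h' y) = c * cj h' y := by
    have : c = ⁅w, cj h' y⁆ := by
      have h3 := cj_comm_map h' w y
      rw [cj_fix.2 (hwH h' hh'), ← hc, S.u_fix (hH'.1 hh') (hc ▸ S.comm_mem hwD hyD)] at h3
      exact h3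
    rw [this, cj_apply, commutatorElement_def]; group
  refine Subgroup.mem_centralizer_singleton_iff.2 (Commute.eq (Commute.symm ?_))
  refine cj_fix.1 ?_
  rw [map_mul, map_inv, hy1, hy2]; group

/-- An element of `W` fixed by `A` is central in `W`. -/
theorem Ctx.fixed_central {H : Subgroup G} (hH : Hyper p A H) {t : G} (ht : t ∈ D)
    (hfix : ∀ a ∈ A, Commute a t) {w : G} (hw : w ∈ W A D H) : Commute t w := by
  obtain ⟨H', hH', hne⟩ := S.exists_other hH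
  exact S.W_comm hH hH'.1 hne.symm (mem_Fx.2 ⟨ht, fun h hh => hfix h (hH'.1.1 hh)⟩) hw

theorem Ctx.W_moved {H : Subgroup G} (hH : Member p A D H) :
    ∃ w ∈ W A D H, ∃ a ∈ A, ¬ Commute a w := by
  obtain ⟨⟨hHA, -⟩, x, hx, a, ha, hax⟩ := hH
  by_contra hno
  push Not at hno
  have hcW : x⁻¹ * cj a x ∈ W A D H := Subgroup.subset_closure ⟨x, hx, a, ha, rfl⟩
  have hsh : cj a x = x * (x⁻¹ * cj a x) := by rw [mul_inv_cancel_left]
  rw [S.shift_one ha (S.W_sq hcW).1 hsh (cj_fix.2 (hno _ hcW a ha)), mul_one] at hsh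
  exact hax (cj_fix.1 hsh)

theorem Ctx.W_nonabelian {H : Subgroup G} (hH : Member p A D H) :
    ∃ w₁ ∈ W A D H, ∃ w₂ ∈ W A D H, ¬ Commute w₁ w₂ := by
  obtain ⟨w, hw, a, ha, haw⟩ := S.W_moved hH
  by_contra hno
  push Not at hno
  exact haw (S.fixed_abelian (M := W A D H) (fun x hx => (S.W_sq hx).1) hno
    (fun b hb x hx => S.W_inv hH.1.1 hb hx) w hw a ha)

end Cfsg.Agent.Solv.KlingerMason
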