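import Cfsg.Agent.Lib.Solv.KlingerMason.Basic

/-!
An elementary abelian 2-group acting faithfully on a group of exponent `p` and class two: it has many
commuting eigenelements, each but the last moved by an involution fixing the previous ones.
-/

set_option autoImplicit false
set_option linter.style.haveILetI false

open scoped commutatorElement

namespace Cfsg.Agent.Solv.KlingerMason

variable {G : Type*} [Group G] [Finite G] {p : ℕ} [hp : Fact p.Prime]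

/-- An elementary 2-group `E` acting on `C`, of exponent `p` and class two, centralized by `B`. -/
structure WData (p : ℕ) (B C E : Subgroup G) : Prop where
  odd : Odd p
  elB : El p B
  elE : El 2 E
  norm : ∀ g ∈ E, ∀ c ∈ C, cj g c ∈ C
  expo : ∀ c ∈ C, c ^ p = 1
  cl : ∀ a ∈ C, ∀ b ∈ C, ∀ c ∈ C, Commute ⁅a, b⁆ c
  faith : ∀ g ∈ E, g ≠ 1 → ∃ x ∈ C, ¬ Commute g x
  cB : ∀ b ∈ B, ∀ c ∈ C, Commute b c
  fixB : ∀ g ∈ E, ∀ b ∈ B, Commute g b

omit [Finite G] hp in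
theorem half {c : G} (hodd : Odd p) (hc : c ^ p = 1) :
    c * (c ^ ((p + 1) / 2))⁻¹ = c ^ ((p + 1) / 2) := by
  obtain ⟨k, rfl⟩ := hodd
  rw [show (2 * k + 1 + 1) / 2 = k + 1 by omega, mul_inv_eq_iff_eq_mul, ← pow_add,
    show k + 1 + (k + 1) = 2 * k + 1 + 1 by omega, pow_succ, hc, one_mul]

variable {B C E : Subgroup G}

omit [Finite G] hp in
theorem WData.cj_comm (W : WData p B C E) {g h : G} (hg : g ∈ E) (hh : h ∈ E) (x : G) :
    cj g (cj h x) = cj h (cj g x) := by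
  rw [← cj_mul, ← cj_mul, (W.elE.1 g hg h hh).eq]

omit hp in
theorem WData.eigen (W : WData p B C E) {K : Subgroup G} (hK : K ≤ E) {h : G} (hh : h ∈ K)
    {x₀ : G} (hx₀ : x₀ ∈ C) (hmov : cj h x₀ ≠ x₀) :
    ∃ r ∈ C, r ≠ 1 ∧ cj h r = r⁻¹ ∧ ∀ g ∈ K, cj g r = r ∨ cj g r = r⁻¹ := by
  classical
  set m := (p + 1) / 2 with hm
  let S : Set G := {x | x ∈ C ∧ cj h x ≠ x}
  let F : G → Set G := fun x => {g | g ∈ K ∧ cj g x = x}
  obtain ⟨x, ⟨hxC, hxh⟩, hmax⟩ := Set.exists_max_image S (fun x => (F x).ncard) (Set.toFinite _)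
    ⟨x₀, hx₀, hmov⟩
  have hh2 : h ^ 2 = 1 := W.elE.2 h (hK hh)
  obtain ⟨r, hr⟩ : ∃ r, r = x⁻¹ * cj h x := ⟨_, rfl⟩
  have hrC : r ∈ C := hr ▸ mul_mem (inv_mem hxC) (W.norm h (hK hh) x hxC)
  have hrh : cj h r = r⁻¹ := by
    rw [hr, map_mul, map_inv, cj_self_two hh2, mul_inv_rev, inv_inv]
  have hr1 : r ≠ 1 := fun e => hxh (inv_mul_eq_one.1 (hr ▸ e)).symm
  have hrne : cj h r ≠ r := hrh ▸ ne_inv_of_ne_one W.odd (W.expo r hrC) hr1
  have hFxr : F x ⊆ F r := fun g hg => ⟨hg.1, by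
    rw [hr, map_mul, map_inv, W.cj_comm (hK hg.1) (hK hh), hg.2]⟩
  have key : ∀ y ∈ C, cj h y ≠ y → F r ⊆ F y → ∀ g ∈ K, cj g y = y → cj g r = r := by
    intro y hy hyh hsub g hg hgy
    have e : F r = F y := Set.eq_of_subset_of_ncard_le hsub
      ((hmax y ⟨hy, hyh⟩).trans (Set.ncard_le_ncard hFxr (Set.toFinite _))) (Set.toFinite _)
    have : g ∈ F r := e ▸ (⟨hg, hgy⟩ : g ∈ F y)
    exact this.2
  refine ⟨r, hrC, hr1, hrh, fun g hg => ?_⟩
  by_contra hcon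
  obtain ⟨hgr, hgr'⟩ := not_or.1 hcon
  have hg2 : g ^ 2 = 1 := W.elE.2 g (hK hg)
  obtain ⟨γ, hγ⟩ : ∃ γ, γ = cj g r := ⟨_, rfl⟩
  have hγC : γ ∈ C := hγ ▸ W.norm g (hK hg) r hrC
  have hgγ : cj g γ = r := by rw [hγ, cj_self_two hg2]
  obtain ⟨d, hd⟩ : ∃ d, d = r⁻¹ * γ := ⟨_, rfl⟩
  have hdC : d ∈ C := hd ▸ mul_mem (inv_mem hrC) hγC
  have hgd : cj g d = d⁻¹ := by rw [hd, map_mul, map_inv, hgγ, ← hγ, mul_inv_rev, inv_inv]
  have hfr : ∀ f ∈ F r, cj f γ = γ ∧ cj f d = d := fun f hf => by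
    have h1 : cj f γ = γ := by rw [hγ, W.cj_comm (hK hf.1) (hK hg), hf.2]
    exact ⟨h1, by rw [hd, map_mul, map_inv, hf.2, h1]⟩
  by_cases hhd : cj h d = d
  · -- `g` would fix more
    refine hgr (key (r * d ^ m) (mul_mem hrC (pow_mem hdC m)) ?_ (fun f hf => ⟨hf.1, ?_⟩) g hg ?_)
    · rw [map_mul, map_pow, hhd]
      exact fun e => hrne (mul_right_cancel e)
    · rw [map_mul, map_pow, hf.2, (hfr f hf).2]
    · rw [map_mul, map_pow, hgd, ← hγ, inv_pow, show γ = r * d by rw [hd, mul_inv_cancel_left],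
        mul_assoc, half W.odd (W.expo d hdC)]
  · -- `g * h` would fix more
    have hhγ : cj h γ = γ⁻¹ := by rw [hγ, W.cj_comm (hK hh) (hK hg), hrh, map_inv]
    have hkr : cj (g * h) r = γ⁻¹ := by rw [cj_mul, hrh, map_inv, ← hγ]
    have hkγ : cj (g * h) γ = r⁻¹ := by rw [cj_mul, hhγ, map_inv, hgγ]
    obtain ⟨z, hz⟩ : ∃ z, z = ⁅γ⁻¹, r⁆ := ⟨_, rfl⟩
    have hzC : z ∈ C := by
      rw [hz, commutatorElement_def]
      exact mul_mem (mul_mem (mul_mem (inv_mem hγC) hrC) (inv_mem (inv_mem hγC))) (inv_mem hrC)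
    have hkd : cj (g * h) d = d * z := by
      rw [hd, map_mul, map_inv, hkr, hkγ, hz, commutatorElement_def]; group
    have hkz : cj (g * h) z = z⁻¹ := by
      rw [hz, cj_comm_map, map_inv, hkr, hkγ, inv_inv, commutatorElement_inv]
    have hhz : cj h z = z := by
      rw [hz, cj_comm_map, map_inv, hhγ, hrh, inv_inv,
        comm_inv_right (W.cl γ hγC r hrC r hrC).symm, comm_inv_left (W.cl γ hγC r hrC γ hγC).symm]
    have hgh : g * h ∈ K := mul_mem hg hh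
    refine hgr' ?_
    have h5 : cj (g * h) r = r := by
      refine key (d * z ^ m) (mul_mem hdC (pow_mem hzC m)) ?_ (fun f hf => ⟨hf.1, ?_⟩) _ hgh ?_
      · rw [map_mul, map_pow, hhz]
        exact fun e => hhd (mul_right_cancel e)
      · rw [map_mul, map_pow, hz, cj_comm_map, map_inv, hf.2, (hfr f hf).1, (hfr f hf).2]
      · rw [map_mul, map_pow, hkd, hkz, inv_pow, mul_assoc, half W.odd (W.expo z hzC)]
    rw [hkr] at h5
    rw [← hγ]; exact inv_eq_iff_eq_inv.1 h5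

omit hp in
theorem card_le_two_mul {K : Subgroup G} {s h : G} (hK : El 2 K) (hh : h ∈ K) (hhs : cj h s = s⁻¹)
    (hall : ∀ g ∈ K, cj g s = s ∨ cj g s = s⁻¹) :
    Nat.card K ≤ 2 * Nat.card (K ⊓ Subgroup.centralizer {s} : Subgroup G) := by
  obtain ⟨F, hF⟩ : ∃ F, F = K ⊓ Subgroup.centralizer ({s} : Set G) := ⟨_, rfl⟩
  rw [← hF]
  have hmem : ∀ g ∈ K, cj g s = s → g ∈ F := fun g hg e => hF ▸ Subgroup.mem_inf.2
    ⟨hg, Subgroup.mem_centralizer_singleton_iff.2 (cj_fix.1 e).eq⟩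
  have hsub : (K : Set G) ⊆ (F : Set G) ∪ (fun f => h * f) '' (F : Set G) := by
    intro g hg
    rcases hall g hg with e | e
    · exact Or.inl (hmem g hg e)
    · refine Or.inr ⟨h * g, hmem _ (mul_mem hh hg) ?_, ?_⟩
      · rw [cj_mul, e, map_inv, hhs, inv_inv]
      · show h * (h * g) = g
        rw [← mul_assoc, ← pow_two, hK.2 h hh, one_mul]
  have h1 : Nat.card K = (K : Set G).ncard := (Nat.card_coe_set_eq _)
  have h2 : Nat.card F = (F : Set G).ncard := (Nat.card_coe_set_eq _)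
  rw [h1, h2]
  refine (Set.ncard_le_ncard hsub (Set.toFinite _)).trans ((Set.ncard_union_le _ _).trans ?_)
  have h3 := Set.ncard_image_le (f := fun f => h * f) (Set.toFinite (F : Set G))
  omega

theorem WData.step (W : WData p B C E) {K Y : Subgroup G} (hKE : K ≤ E) (hY : Y ≤ C)
    (hel : El p (B ⊔ Y)) (hfix : ∀ g ∈ K, ∀ x ∈ B ⊔ Y, Commute g x) (h2 : 2 ≤ Nat.card K) :
    ∃ h ∈ K, ∃ s ∈ C, s ≠ 1 ∧ cj h s = s⁻¹ ∧ El p (B ⊔ Y ⊔ Subgroup.zpowers s) ∧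
      Nat.card (B ⊔ Y ⊔ Subgroup.zpowers s : Subgroup G) = Nat.card (B ⊔ Y : Subgroup G) * p ∧
      Nat.card K ≤ 2 * Nat.card (K ⊓ Subgroup.centralizer {s} : Subgroup G) := by
  haveI : Nontrivial K := Finite.one_lt_card_iff_nontrivial.1 h2
  obtain ⟨h, hh⟩ := exists_ne (1 : K)
  have hh1 : (h : G) ≠ 1 := fun e => hh (Subtype.ext e)
  obtain ⟨x, hx, hxh⟩ := W.faith h (hKE h.2) hh1
  obtain ⟨r, hrC, hr1, hrh, hrall⟩ := W.eigen hKE h.2 hx (fun e => hxh (cj_fix.1 e))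
  obtain ⟨s, hsC, hs1, hsh, hsall, hsY⟩ : ∃ s ∈ C, s ≠ 1 ∧ cj (h : G) s = s⁻¹ ∧
      (∀ g ∈ K, cj g s = s ∨ cj g s = s⁻¹) ∧ ∀ y ∈ Y, Commute s y := by
    by_cases hc : ∀ y ∈ Y, Commute r y
    · exact ⟨r, hrC, hr1, hrh, hrall, hc⟩
    push Not at hc
    obtain ⟨y, hy, hyr⟩ := hc
    have hmem : ⁅y, r⁆ ∈ C := by
      rw [commutatorElement_def]
      exact mul_mem (mul_mem (mul_mem (hY hy) hrC) (inv_mem (hY hy))) (inv_mem hrC)
    have hg : ∀ g ∈ K, cj g r = r⁻¹ → cj g ⁅y, r⁆ = ⁅y, r⁆⁻¹ := fun g hg e => by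
      rw [cj_comm_map, e, cj_fix.2 (hfix g hg y (Subgroup.mem_sup_right hy)),
        comm_inv_right (W.cl y (hY hy) r hrC r hrC).symm]
    refine ⟨⁅y, r⁆, hmem, fun e => hyr (commutatorElement_eq_one_iff_commute.1 e).symm,
      hg h h.2 hrh, fun g hgK => ?_, fun y' hy' => W.cl y (hY hy) r hrC y' (hY hy')⟩
    rcases hrall g hgK with e | e
    · refine Or.inl ?_
      rw [cj_comm_map, e, cj_fix.2 (hfix g hgK y (Subgroup.mem_sup_right hy))]
    · exact Or.inr (hg g hgK e)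
  have hsX : ∀ e ∈ B ⊔ Y, Commute s e := by
    have : B ⊔ Y ≤ Subgroup.centralizer ({s} : Set G) := sup_le
      (fun b hb => Subgroup.mem_centralizer_singleton_iff.2 (W.cB b hb s hsC).eq)
      (fun y hy => Subgroup.mem_centralizer_singleton_iff.2 (hsY y hy).symm.eq)
    exact fun e he => (Subgroup.mem_centralizer_singleton_iff.1 (this he)).symm
  have hsn : s ∉ B ⊔ Y := fun hs => by
    rw [cj_fix.2 (hfix h h.2 s hs)] at hsh
    exact ne_inv_of_ne_one W.odd (W.expo s hsC) hs1 hsh.symm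
  obtain ⟨he1, he2⟩ := hel.extend (W.expo s hsC) hsX hsn
  exact ⟨h, h.2, s, hsC, hs1, hsh, he1, he2, card_le_two_mul (W.elE.mono hKE) h.2 hsh hsall⟩

theorem WData.fix_sup (W : WData p B C E) {K Y : Subgroup G} {s : G} (hs : s ∈ C) (hKE : K ≤ E)
    (hel : El p (B ⊔ Y ⊔ Subgroup.zpowers s))
    (hfix : ∀ g ∈ K, ∀ x ∈ B ⊔ Y, Commute g x) :
    ∀ g ∈ K ⊓ Subgroup.centralizer {s}, ∀ x ∈ B ⊔ Y ⊔ Subgroup.zpowers s, Commute g x := by
  intro g hg x hx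
  have hs' : ∀ e ∈ B ⊔ Y, Commute s e := fun e he =>
    hel.1 s (Subgroup.mem_sup_right (Subgroup.mem_zpowers s)) e (Subgroup.mem_sup_left he)
  obtain ⟨e, he, i, rfl⟩ := (mem_sup_zpowers hs').1 hx
  exact (hfix g (Subgroup.mem_inf.1 hg).1 e he).mul_right ((show Commute g s from
    Subgroup.mem_centralizer_singleton_iff.1 (Subgroup.mem_inf.1 hg).2).zpow_right i)

theorem WData.chain (W : WData p B C E) : ∀ n : ℕ, 2 ^ n ≤ Nat.card E →
    ∃ Y ≤ C, ∃ K ≤ E, El p (B ⊔ Y) ∧ Nat.card (B ⊔ Y : Subgroup G) = Nat.card B * p ^ n ∧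
      Nat.card E ≤ 2 ^ n * Nat.card K ∧ ∀ g ∈ K, ∀ x ∈ B ⊔ Y, Commute g x := by
  intro n
  induction n with
  | zero =>
    intro _
    exact ⟨⊥, bot_le, E, le_rfl, by rw [sup_bot_eq]; exact W.elB, by simp, by simp,
      fun g hg x hx => W.fixB g hg x (by rwa [sup_bot_eq] at hx)⟩
  | succ n ih =>
    intro hE
    rw [pow_succ] at hE
    obtain ⟨Y, hY, K, hKE, hel, hcard, hK, hfix⟩ := ih (by omega)
    have h2 : 2 ≤ Nat.card K := by
      by_contra hlt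
      have h4 : Nat.card K ≤ 1 := by omega
      have h3 : 2 ^ n * Nat.card K ≤ 2 ^ n :=
        (Nat.mul_le_mul_left _ h4).trans (le_of_eq (Nat.mul_one _))
      have h5 : 0 < 2 ^ n := Nat.two_pow_pos n
      omega
    obtain ⟨h, -, s, hs, -, -, he1, he2, hKc⟩ := W.step hKE hY hel hfix h2
    refine ⟨Y ⊔ Subgroup.zpowers s, sup_le hY (Subgroup.zpowers_le.2 hs),
      K ⊓ Subgroup.centralizer {s}, inf_le_left.trans hKE, by rwa [← sup_assoc], ?_, ?_, ?_⟩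
    · rw [← sup_assoc, he2, hcard, pow_succ, mul_assoc]
    · rw [pow_succ, mul_assoc]
      exact hK.trans (Nat.mul_le_mul_left _ hKc)
    · rw [← sup_assoc]
      exact W.fix_sup hs hKE he1 hfix

end Cfsg.Agent.Solv.KlingerMason
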